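import Mathlib
import Cfsg.Agent.R2.PX.Kap
import Cfsg.Agent.R2.PX.Conf
import Cfsg.Agent.R2.PX.Tr3
import Cfsg.Agent.R2.PX.W.Words

/-!
# Pattern X, part A: purity (helper5)

`v : Fin 8 → V F` permuted by `A_8` with sum 0, in characteristic 5.
* `tr4`, `tr3`, `tr2` : transitivity;
* `om_zero` : `sf (v i) (v j) = 0`;
* `pure_of` : `v i` is pure if the vectors of `L F` fixed by the stabiliser of `{0, 1, 2, 3}` are anisotropic;
* `rr_zero` : `sf (v 0) (D(v 1, v 2) v 3) = 0` implies `D(v i, v j) = 0`.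
-/

set_option autoImplicit false
set_option maxRecDepth 100000
set_option linter.unusedSectionVars false

namespace Cfsg.Agent.R2.PX.A4

open Cfsg Cfsg.Lie Module Matrix Equiv Equiv.Perm
open Cfsg.Agent.H943.E7V.Block (D1 rho)
open Cfsg.Agent.R2.T1

universe u

/-- the alternating group of degree 8 -/
abbrev A8 : Type := ↥(alternatingGroup (Fin 8))

theorem tr4 {i j l m : Fin 8} (h : [i, j, l, m].Nodup) : ∃ q : A8, (q : Perm (Fin 8)) 0 = i ∧ (q : Perm (Fin 8)) 1 = j ∧
    (q : Perm (Fin 8)) 2 = l ∧ (q : Perm (Fin 8)) 3 = m := by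
  obtain ⟨n, h5⟩ := W.exists_next _ h (by simp)
  obtain ⟨o, h6⟩ := W.exists_next _ h5 (by simp)
  obtain ⟨p, h7⟩ := W.exists_next _ h6 (by simp)
  obtain ⟨q, h8⟩ := W.exists_next _ h7 (by simp)
  simp only [List.cons_append, List.nil_append] at h8
  obtain ⟨s, hs⟩ := W.exists_perm h8
  have hs' : ∀ a, s a = ![i, j, l, m, n, o, p, q] a := fun a => by
    have := congrFun (hs (fun x => x)) a
    rw [Function.comp_apply] at this
    rw [this]
  have e0 : s 0 = i := hs' 0
  have e1 : s 1 = j := hs' 1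
  have e2 : s 2 = l := hs' 2
  have e3 : s 3 = m := hs' 3
  rcases Int.units_eq_one_or (sign s) with h9 | h9
  · exact ⟨⟨s, mem_alternatingGroup.2 h9⟩, e0, e1, e2, e3⟩
  · have key : ∀ a : Fin 8, a ≠ 6 → a ≠ 7 → (s * swap 6 7 : Perm (Fin 8)) a = s a := fun a h1 h2 => by
      rw [Perm.mul_apply, swap_apply_of_ne_of_ne h1 h2]
    refine ⟨⟨s * swap 6 7, mem_alternatingGroup.2 ?_⟩, ?_, ?_, ?_, ?_⟩
    · rw [Perm.sign_mul, h9, sign_swap (by decide)]
      rfl
    · exact (key 0 (by decide) (by decide)).trans e0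
    · exact (key 1 (by decide) (by decide)).trans e1
    · exact (key 2 (by decide) (by decide)).trans e2
    · exact (key 3 (by decide) (by decide)).trans e3

theorem tr3 {i j l : Fin 8} (h : [i, j, l].Nodup) : ∃ q : A8, (q : Perm (Fin 8)) 0 = i ∧ (q : Perm (Fin 8)) 1 = j ∧
    (q : Perm (Fin 8)) 2 = l := by
  obtain ⟨n, h5⟩ := W.exists_next _ h (by simp)
  obtain ⟨q, h0, h1, h2, -⟩ := tr4 h5
  exact ⟨q, h0, h1, h2⟩

theorem tr2 {i j : Fin 8} (h : i ≠ j) : ∃ q : A8, (q : Perm (Fin 8)) 0 = i ∧ (q : Perm (Fin 8)) 1 = j := by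
  obtain ⟨n, h5⟩ := W.exists_next [i, j] (by simp [h]) (by simp)
  obtain ⟨q, h0, h1, -⟩ := tr3 h5
  exact ⟨q, h0, h1⟩

/-- the block -/
def T4 : Finset (Fin 8) := Finset.univ.filter fun i => i.val < 4

theorem sum_T4 {M : Type*} [AddCommMonoid M] (g : Fin 8 → M) : ∑ i ∈ T4, g i = g 0 + g 1 + g 2 + g 3 := by
  have h : T4 = {0, 1, 2, 3} := by decide
  rw [h, Finset.sum_insert (by decide), Finset.sum_insert (by decide), Finset.sum_insert (by decide),
    Finset.sum_singleton, add_assoc, add_assoc]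

theorem sum_T4_perm {M : Type*} [AddCommMonoid M] (g : Fin 8 → M) {a : A8}
    (ha : ∀ i : Fin 8, ((a : Perm (Fin 8)) i).val < 4 ↔ i.val < 4) : ∑ i ∈ T4, g ((a : Perm (Fin 8)) i) = ∑ i ∈ T4, g i := by
  refine Finset.sum_equiv (a : Perm (Fin 8)) (fun i => ?_) fun i _ => rfl
  rw [T4, Finset.mem_filter, Finset.mem_filter]
  simp [ha]

section
variable {F : Type u} [Field F] [CharP F 5] {ψ : A8 →* Gh F} {v : Fin 8 → D1 → F}
  (act : ∀ (p : A8) (i : Fin 8), V F (ψ p) (v i) = v ((p : Perm (Fin 8)) i))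
include act

theorem sf_eqv (q : A8) (i j : Fin 8) : sf F (v ((q : Perm (Fin 8)) i)) (v ((q : Perm (Fin 8)) j)) = sf F (v i) (v j) := by
  rw [← act, ← act, sf_V]

theorem dd_eqv (q : A8) (i j : Fin 8) : L F (ψ q) (dd (v i) (v j)) = dd (v ((q : Perm (Fin 8)) i)) (v ((q : Perm (Fin 8)) j)) := by
  rw [dd_L, act, act]

theorem om_zero (i j : Fin 8) : sf F (v i) (v j) = 0 := by
  by_cases h : i = j
  · rw [h, sf_self]
  · obtain ⟨q, h0, h1⟩ := tr2 h
    obtain ⟨q', h0', h1'⟩ := tr2 (Ne.symm h)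
    have e1 := sf_eqv act q 0 1
    have e2 := sf_eqv act q' 0 1
    rw [h0, h1] at e1
    rw [h0', h1', ← e1, sf_swap (v j) (v i)] at e2
    have h3 : (2 : F) * sf F (v i) (v j) = 0 := by linear_combination -e2
    exact (mul_eq_zero.1 h3).resolve_left two_ne

theorem DD_sym (i j k : Fin 8) : DD F (v i) (v j) *ᵥ v k = DD F (v i) (v k) *ᵥ v j := by
  have h := ident (v i) (v j) (v k)
  rw [om_zero act, om_zero act, om_zero act] at h
  rw [← sub_eq_zero, h]
  module

/-- the four-linear form -/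
noncomputable def ff (v : Fin 8 → D1 → F) (i j k l : Fin 8) : F := kap F (dd (v i) (v j)) (dd (v k) (v l))

omit act in
theorem ff12 (i j k l : Fin 8) : ff v i j k l = ff v j i k l := by rw [ff, dd_comm]; rfl

omit act in
theorem ff34 (i j k l : Fin 8) : ff v i j k l = ff v i j l k := by rw [ff, dd_comm (v k)]; rfl

theorem ff23 (i j k l : Fin 8) : ff v i j k l = ff v i k j l := by
  rw [ff, ff, kap_dd_dd, kap_dd_dd, DD_sym act]

theorem ff_eqv (q : A8) (i j k l : Fin 8) : ff v ((q : Perm (Fin 8)) i) ((q : Perm (Fin 8)) j) ((q : Perm (Fin 8)) k)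
    ((q : Perm (Fin 8)) l) = ff v i j k l := by
  rw [ff, ← dd_eqv act, ← dd_eqv act, kap_L]
  rfl

theorem ff_E {i j k l : Fin 8} (h : [i, j, k, l].Nodup) : ff v i j k l = ff v 0 1 2 3 := by
  obtain ⟨q, h0, h1, h2, h3⟩ := tr4 h
  rw [← ff_eqv act q 0 1 2 3, h0, h1, h2, h3]

theorem ff_D {i j k : Fin 8} (h : [i, j, k].Nodup) : ff v i i j k = ff v 0 0 1 2 := by
  obtain ⟨q, h0, h1, h2⟩ := tr3 h
  rw [← ff_eqv act q 0 0 1 2, h0, h1, h2]

theorem ff_C {i j : Fin 8} (h : i ≠ j) : ff v i i j j = ff v 0 0 1 1 := by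
  obtain ⟨q, h0, h1⟩ := tr2 h
  rw [← ff_eqv act q 0 0 1 1, h0, h1]

theorem ff_B {i j : Fin 8} (h : i ≠ j) : ff v i i i j = ff v 0 0 0 1 := by
  obtain ⟨q, h0, h1⟩ := tr2 h
  rw [← ff_eqv act q 0 0 0 1, h0, h1]

theorem ff_A (i : Fin 8) : ff v i i i i = ff v 0 0 0 0 := by
  obtain ⟨j, hj⟩ : ∃ j, i ≠ j := by
    obtain ⟨j, hj⟩ := exists_ne i
    exact ⟨j, hj.symm⟩
  obtain ⟨q, h0, -⟩ := tr2 hj
  rw [← ff_eqv act q 0 0 0 0, h0]

variable (hsum : ∑ i, v i = 0)
include hsum

omit act in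
theorem ff_sum (i j k : Fin 8) : ∑ l, ff v i j k l = 0 := by
  have h : ∀ l, ff v i j k l = sf F (DD F (v i) (v j) *ᵥ v k) (v l) := fun l => by rw [ff, kap_dd_dd]
  rw [Finset.sum_congr rfl fun l _ => h l, ← map_sum, hsum, map_zero]

theorem rel_D : ff v 0 0 1 2 = 0 := by
  have h := ff_sum hsum 0 1 2
  rw [Fin.sum_univ_eight] at h
  have e0 : ff v 0 1 2 0 = ff v 0 0 1 2 := by rw [ff34, ff23 act 0 1 0 2]
  have e1 : ff v 0 1 2 1 = ff v 0 0 1 2 := by
    rw [ff34, ff12, ff23 act 1 0 1 2]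
    exact ff_D act (by decide)
  have e2 : ff v 0 1 2 2 = ff v 0 0 1 2 := by
    rw [ff23 act, ff12, ff34, ff23 act 2 0 2 1, ff34]
    rw [ff34]
    exact ff_D act (by decide)
  have e4 : ff v 0 1 2 4 = ff v 0 1 2 3 := ff_E act (by decide)
  have e5 : ff v 0 1 2 5 = ff v 0 1 2 3 := ff_E act (by decide)
  have e6 : ff v 0 1 2 6 = ff v 0 1 2 3 := ff_E act (by decide)
  have e7 : ff v 0 1 2 7 = ff v 0 1 2 3 := ff_E act (by decide)
  rw [e0, e1, e2, e4, e5, e6, e7] at h
  have h5 : (5 : F) = 0 := five_zero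
  have h6 : (3 : F) * ff v 0 0 1 2 = 0 := by linear_combination h - ff v 0 1 2 3 * h5
  have h3 : (3 : F) ≠ 0 := fun h3 => two_ne (F := F) (by linear_combination h5 - h3)
  exact (mul_eq_zero.1 h6).resolve_left h3

theorem rel_C : ff v 0 0 0 1 + ff v 0 0 1 1 = 0 := by
  have h := ff_sum hsum 0 0 1
  rw [Fin.sum_univ_eight] at h
  have hD := rel_D act hsum
  have e0 : ff v 0 0 1 0 = ff v 0 0 0 1 := ff34 _ _ _ _
  have e3 : ff v 0 0 1 3 = 0 := (ff_D act (by decide)).trans hD
  have e4 : ff v 0 0 1 4 = 0 := (ff_D act (by decide)).trans hD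
  have e5 : ff v 0 0 1 5 = 0 := (ff_D act (by decide)).trans hD
  have e6 : ff v 0 0 1 6 = 0 := (ff_D act (by decide)).trans hD
  have e7 : ff v 0 0 1 7 = 0 := (ff_D act (by decide)).trans hD
  rw [e0, hD, e3, e4, e5, e6, e7] at h
  linear_combination h

theorem rel_B : ff v 0 0 0 0 + 7 * ff v 0 0 0 1 = 0 := by
  have h := ff_sum hsum 0 0 0
  rw [Fin.sum_univ_eight] at h
  have e2 : ff v 0 0 0 2 = ff v 0 0 0 1 := ff_B act (by decide)
  have e3 : ff v 0 0 0 3 = ff v 0 0 0 1 := ff_B act (by decide)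
  have e4 : ff v 0 0 0 4 = ff v 0 0 0 1 := ff_B act (by decide)
  have e5 : ff v 0 0 0 5 = ff v 0 0 0 1 := ff_B act (by decide)
  have e6 : ff v 0 0 0 6 = ff v 0 0 0 1 := ff_B act (by decide)
  have e7 : ff v 0 0 0 7 = ff v 0 0 0 1 := ff_B act (by decide)
  rw [e2, e3, e4, e5, e6, e7] at h
  linear_combination h

variable (han : ∀ z : chevE7.Idx → F, (∀ a : A8, (∀ i : Fin 8, ((a : Perm (Fin 8)) i).val < 4 ↔ i.val < 4) →
  L F (ψ a) z = z) → kap F z z = 0 → z = 0)
include han

theorem sum_sq_zero : ∑ i ∈ T4, dd (v i) (v i) = 0 := by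
  apply han
  · intro a ha
    rw [map_sum, Finset.sum_congr rfl fun i _ => dd_eqv act a i i]
    exact sum_T4_perm (fun i => dd (v i) (v i)) ha
  · rw [map_sum]
    have h1 : ∀ j, kap F (∑ i ∈ T4, dd (v i) (v i)) (dd (v j) (v j)) = ∑ i ∈ T4, ff v i i j j := fun j => by
      rw [map_sum, LinearMap.sum_apply]
      rfl
    rw [Finset.sum_congr rfl fun j _ => h1 j, sum_T4, sum_T4, sum_T4, sum_T4, sum_T4]
    have hA := fun i => ff_A act i
    have hC : ∀ i j : Fin 8, i ≠ j → ff v i i j j = ff v 0 0 1 1 := fun i j h => ff_C act h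
    rw [hA 1, hA 2, hA 3, hC 1 0 (by decide), hC 2 0 (by decide), hC 3 0 (by decide), hC 2 1 (by decide), hC 3 1 (by decide),
      hC 0 2 (by decide), hC 1 2 (by decide), hC 3 2 (by decide), hC 0 3 (by decide), hC 1 3 (by decide),
      hC 2 3 (by decide)]
    have h2 := rel_B act hsum
    have h3 := rel_C act hsum
    have h5 : (5 : F) = 0 := five_zero
    linear_combination 4 * h2 + 12 * h3 - 8 * ff v 0 0 0 1 * h5

theorem pure_all (i : Fin 8) : dd (v i) (v i) = 0 := by
  have h1 := sum_sq_zero act hsum han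
  rw [sum_T4] at h1
  have key : ∀ q : A8, dd (v ((q : Perm (Fin 8)) 0)) (v ((q : Perm (Fin 8)) 0)) + dd (v ((q : Perm (Fin 8)) 1)) (v ((q : Perm (Fin 8)) 1)) +
      dd (v ((q : Perm (Fin 8)) 2)) (v ((q : Perm (Fin 8)) 2)) + dd (v ((q : Perm (Fin 8)) 3)) (v ((q : Perm (Fin 8)) 3)) = 0 := by
    intro q
    rw [← dd_eqv act, ← dd_eqv act, ← dd_eqv act, ← dd_eqv act, ← map_add, ← map_add, ← map_add, h1, map_zero]
  obtain ⟨q, h0, h1', h2, h3⟩ := tr4 (i := 0) (j := 1) (l := 2) (m := 4) (by decide)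
  have h4 := key q
  rw [h0, h1', h2, h3] at h4
  have h34 : dd (v 4) (v 4) = dd (v 3) (v 3) := by
    have h5 : (dd (v 0) (v 0) + dd (v 1) (v 1) + dd (v 2) (v 2) + dd (v 4) (v 4)) =
      (dd (v 0) (v 0) + dd (v 1) (v 1) + dd (v 2) (v 2) + dd (v 3) (v 3)) := by rw [h4, h1]
    exact add_left_cancel h5
  -- all are equal
  have heq : ∀ i j : Fin 8, i ≠ j → dd (v i) (v i) = dd (v j) (v j) := by
    obtain ⟨q, g0, g1⟩ := tr2 (i := 3) (j := 4) (by decide)
    have h6 : dd (v 0) (v 0) = dd (v 1) (v 1) := by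
      have e1 := dd_eqv act q⁻¹ 3 3
      have e2 := dd_eqv act q⁻¹ 4 4
      have i1 : ((q⁻¹ : A8) : Perm (Fin 8)) 3 = 0 := by
        rw [← g0]; exact (q : Perm (Fin 8)).symm_apply_apply 0
      have i2 : ((q⁻¹ : A8) : Perm (Fin 8)) 4 = 1 := by
        rw [← g1]; exact (q : Perm (Fin 8)).symm_apply_apply 1
      rw [i1] at e1
      rw [i2] at e2
      rw [← e1, ← e2, h34]
    intro i j hij
    obtain ⟨q, g0, g1⟩ := tr2 hij
    have e1 := dd_eqv act q 0 0
    have e2 := dd_eqv act q 1 1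
    rw [g0] at e1
    rw [g1] at e2
    rw [← e1, ← e2, h6]
  have h00 : dd (v 0) (v 0) = 0 := by
    rw [heq 1 0 (by decide), heq 2 0 (by decide), heq 3 0 (by decide)] at h1
    have h7 : (4 : F) • dd (v 0) (v 0) = 0 := by
      rw [← h1]
      module
    have h8 : (4 : F) ≠ 0 := by
      have : (4 : F) = 2 * 2 := by norm_num
      rw [this]
      exact mul_ne_zero two_ne two_ne
    exact (smul_eq_zero_iff_right h8).1 h7
  by_cases hi : i = 0
  · rw [hi]; exact h00
  · rw [heq i 0 hi, h00]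

/-- all values of the form are zero if `E = 0` -/
theorem ff_zero (hE : ff v 0 1 2 3 = 0) (i j k l : Fin 8) : ff v i j k l = 0 := by
  have hp : ∀ i k l, ff v i i k l = 0 := fun i k l => by
    rw [ff, pure_all act hsum han, map_zero, LinearMap.zero_apply]
  by_cases h : [i, j, k, l].Nodup
  · rw [ff_E act h, hE]
  · have h' : i = j ∨ i = k ∨ i = l ∨ j = k ∨ j = l ∨ k = l := by
      by_contra hc
      push Not at hc
      apply h
      simp only [List.nodup_cons, List.mem_cons, not_or, List.not_mem_nil, not_false_eq_true,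
        List.nodup_nil, and_true]
      tauto
    rcases h' with rfl | rfl | rfl | rfl | rfl | rfl
    · exact hp _ _ _
    · rw [ff23 act]; exact hp _ _ _
    · rw [ff34, ff23 act]; exact hp _ _ _
    · rw [ff12, ff23 act]; exact hp _ _ _
    · rw [ff12, ff34, ff23 act]; exact hp _ _ _
    · rw [ff, pure_all act hsum han, map_zero]

theorem sum_pairs_zero (hE : ff v 0 1 2 3 = 0) : ∑ i ∈ T4, ∑ j ∈ T4, dd (v i) (v j) = 0 := by
  apply han
  · intro a ha
    rw [map_sum, ← sum_T4_perm (fun i => ∑ j ∈ T4, dd (v i) (v j)) ha]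
    refine Finset.sum_congr rfl fun i _ => ?_
    rw [map_sum, ← sum_T4_perm (fun j => dd (v ((a : Perm (Fin 8)) i)) (v j)) ha]
    exact Finset.sum_congr rfl fun j _ => dd_eqv act a i j
  · rw [map_sum]
    refine Finset.sum_eq_zero fun k _ => ?_
    rw [map_sum]
    refine Finset.sum_eq_zero fun l _ => ?_
    rw [map_sum, LinearMap.sum_apply]
    refine Finset.sum_eq_zero fun i _ => ?_
    rw [map_sum, LinearMap.sum_apply]
    exact Finset.sum_eq_zero fun j _ => ff_zero act hsum han hE i j k l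

/-- the sum over the pairs of four indices -/
theorem pairs_zero (hE : ff v 0 1 2 3 = 0) {a b c d : Fin 8} (h : [a, b, c, d].Nodup) :
    dd (v a) (v b) + dd (v a) (v c) + dd (v a) (v d) + dd (v b) (v c) + dd (v b) (v d) + dd (v c) (v d) = 0 := by
  obtain ⟨q, h0, h1, h2, h3⟩ := tr4 h
  have h4 := sum_pairs_zero act hsum han hE
  rw [sum_T4, sum_T4, sum_T4, sum_T4, sum_T4] at h4
  have p := fun i => pure_all act hsum han i
  rw [p, p, p, p, dd_comm (v 1) (v 0), dd_comm (v 2) (v 0), dd_comm (v 2) (v 1), dd_comm (v 3) (v 0),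
    dd_comm (v 3) (v 1), dd_comm (v 3) (v 2)] at h4
  have h5 : dd (v 0) (v 1) + dd (v 0) (v 2) + dd (v 0) (v 3) + dd (v 1) (v 2) + dd (v 1) (v 3) + dd (v 2) (v 3) = 0 := by
    have h6 : (2 : F) • (dd (v 0) (v 1) + dd (v 0) (v 2) + dd (v 0) (v 3) + dd (v 1) (v 2) + dd (v 1) (v 3) + dd (v 2) (v 3)) = 0 := by
      linear_combination (norm := module) h4
    exact (smul_eq_zero_iff_right two_ne).1 h6
  have h7 := congrArg (L F (ψ q)) h5
  rw [map_zero, map_add, map_add, map_add, map_add, map_add, dd_eqv act, dd_eqv act, dd_eqv act, dd_eqv act, dd_eqv act,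
    dd_eqv act, h0, h1, h2, h3] at h7
  exact h7

theorem rr_eq (hE : ff v 0 1 2 3 = 0) {c d e : Fin 8} (h : [c, d, e].Nodup) : dd (v c) (v d) = dd (v c) (v e) := by
  obtain ⟨a, h4⟩ := W.exists_next _ h (by simp)
  obtain ⟨b, h5⟩ := W.exists_next _ h4 (by simp)
  obtain ⟨f, h6⟩ := W.exists_next _ h5 (by simp)
  simp only [List.cons_append, List.nil_append, List.nodup_cons, List.mem_cons, not_or, List.not_mem_nil,
    not_false_eq_true, List.nodup_nil, and_true] at h6
  obtain ⟨⟨n1, n2, n3, n4, n5⟩, ⟨n6, n7, n8, n9⟩, ⟨n10, n11, n12⟩, ⟨n13, n14⟩, n15⟩ := h6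
  have S := fun {a b c d : Fin 8} (h : [a, b, c, d].Nodup) => pairs_zero act hsum han hE h
  have sab := S (a := a) (b := b) (c := c) (d := d) (by
    simp only [List.nodup_cons, List.mem_cons, not_or, List.not_mem_nil, not_false_eq_true, List.nodup_nil, and_true]; tauto)
  have sab' := S (a := a) (b := b) (c := c) (d := e) (by
    simp only [List.nodup_cons, List.mem_cons, not_or, List.not_mem_nil, not_false_eq_true, List.nodup_nil, and_true]; tauto)
  have saf := S (a := a) (b := f) (c := c) (d := d) (by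
    simp only [List.nodup_cons, List.mem_cons, not_or, List.not_mem_nil, not_false_eq_true, List.nodup_nil, and_true]; tauto)
  have saf' := S (a := a) (b := f) (c := c) (d := e) (by
    simp only [List.nodup_cons, List.mem_cons, not_or, List.not_mem_nil, not_false_eq_true, List.nodup_nil, and_true]; tauto)
  have sbf := S (a := b) (b := f) (c := c) (d := d) (by
    simp only [List.nodup_cons, List.mem_cons, not_or, List.not_mem_nil, not_false_eq_true, List.nodup_nil, and_true]; tauto)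
  have sbf' := S (a := b) (b := f) (c := c) (d := e) (by
    simp only [List.nodup_cons, List.mem_cons, not_or, List.not_mem_nil, not_false_eq_true, List.nodup_nil, and_true]; tauto)
  have sabf := S (a := a) (b := b) (c := f) (d := d) (by
    simp only [List.nodup_cons, List.mem_cons, not_or, List.not_mem_nil, not_false_eq_true, List.nodup_nil, and_true]; tauto)
  have sabf' := S (a := a) (b := b) (c := f) (d := e) (by
    simp only [List.nodup_cons, List.mem_cons, not_or, List.not_mem_nil, not_false_eq_true, List.nodup_nil, and_true]; tauto)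
  have h3 : (3 : F) • (dd (v c) (v d) - dd (v c) (v e)) = 0 := by
    linear_combination (norm := module) sab - sab' + saf - saf' + sbf - sbf' - (2 : F) • sabf + (2 : F) • sabf'
  have h5 : (5 : F) = 0 := five_zero
  have h3' : (3 : F) ≠ 0 := fun h3 => two_ne (F := F) (by linear_combination h5 - h3)
  exact sub_eq_zero.1 ((smul_eq_zero_iff_right h3').1 h3)

/-- **all `D(v i, v j)` vanish** -/
theorem rr_zero (hE : ff v 0 1 2 3 = 0) (i j : Fin 8) : dd (v i) (v j) = 0 := by
  by_cases hij : i = j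
  · rw [hij]; exact pure_all act hsum han j
  · obtain ⟨q, g0, g1⟩ := tr2 hij
    have h1 : dd (v 0) (v 1) = 0 := by
      have h2 : ∑ k, dd (v 0) (v k) = 0 := by
        have h3 : ∀ k, dd (v 0) (v k) = ddL F (v 0) (v k) := fun k => rfl
        rw [Finset.sum_congr rfl fun k _ => h3 k, ← map_sum, hsum, map_zero]
      rw [Fin.sum_univ_eight, pure_all act hsum han, rr_eq act hsum han hE (c := 0) (d := 2) (e := 1) (by decide),
        rr_eq act hsum han hE (c := 0) (d := 3) (e := 1) (by decide), rr_eq act hsum han hE (c := 0) (d := 4) (e := 1) (by decide),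
        rr_eq act hsum han hE (c := 0) (d := 5) (e := 1) (by decide), rr_eq act hsum han hE (c := 0) (d := 6) (e := 1) (by decide),
        rr_eq act hsum han hE (c := 0) (d := 7) (e := 1) (by decide)] at h2
      have h5 : (5 : F) = 0 := five_zero
      have h7 : (2 : F) • dd (v 0) (v 1) = 0 := by
        linear_combination (norm := module) h2 - h5 • dd (v 0) (v 1)
      exact (smul_eq_zero_iff_right two_ne).1 h7
    have e := dd_eqv act q 0 1
    rw [g0, g1, h1, map_zero] at e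
    exact e.symm

end

end Cfsg.Agent.R2.PX.A4
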