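import Mathlib
import Cfsg.Agent.R2.PX.A.A34b
import Cfsg.Agent.R2.PX.A.Ani

/-!
# Pattern X, part A: the configuration (helper5)

`a3a4` : vectors permuted by `A_8` form a configuration.
-/

set_option autoImplicit false
set_option maxRecDepth 100000

namespace Cfsg.Agent.R2.PX.A

open Cfsg Cfsg.Lie Module Matrix Equiv Equiv.Perm
open Cfsg.Agent.H943.E7V.Block (D1 rho)
open Cfsg.Agent.H952.F4 (MaxAlt)
open Cfsg.Agent.R2.T1

universe u

variable {F : Type u} [Field F] [CharP F 5] [Finite F] {H : Subgroup ↥(chevE7.group F)}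
  {φ : ↥(alternatingGroup (Fin 8)) →* ↥(chevE7.group F)} {ψ : ↥(alternatingGroup (Fin 8)) →* Gh F}

/-- **the configuration** -/
theorem a3a4 (hM : MaxAlt H 8 φ) (hL : Lift φ ψ) (hP : PatX F ψ) (v : Fin 8 → D1 → F)
    (act : ∀ (p : ↥(alternatingGroup (Fin 8))) (i : Fin 8), V F (ψ p) (v i) = v ((p : Perm (Fin 8)) i)) (hne : v 0 ≠ 0)
    (hS : Stab (V F) H (Submodule.span F (Set.range v))) : Config F ψ v := by
  have hsum : ∑ i, v i = 0 := by
    have h1 : ∑ i, v i ∈ Representation.invariants (MonoidHom.comp (V F) ψ) := by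
      rw [Representation.mem_invariants]
      intro g
      have h2 : ∀ i, V F (ψ g) (v i) = v ((g : Perm (Fin 8)) i) := act g
      show V F (ψ g) (∑ i, v i) = _
      rw [map_sum, Finset.sum_congr rfl fun i _ => h2 i]
      exact Equiv.sum_comp (g : Perm (Fin 8)) v
    rw [no_fixed hM (by norm_num) (by norm_num) hL] at h1
    exact (Submodule.mem_bot F).1 h1
  exact A4.config_of act hne hsum hM hL hS fun z hz h0 => aniso hP hz h0

end Cfsg.Agent.R2.PX.A
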