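import Cfsg.Agent.R2.PX.A.Grp

/-!
# Pattern X of S5771, Part A: the dimensions of the fixed spaces of some subgroups of `A₈` (helper7)

* `Pt ρ d d2 d24 d3 d33` : dimension and dimensions of the fixed spaces of the elements of types `2², 2⁴, 3, 3²`;
* `dimL` : the fixed space of `A₄ × A₄` is one-dimensional for `(133, 69, 69, 43, 43)`; `goodL`;
* `dimP` : `(0 1)(3 4)` acts trivially on the fixed space of `⟨(0 1 2), (3 4 5)⟩` for `(56, 32, 24, 20, 20)`;
* `dimE` : the regular group `2³` has no fixed vectors for `(56, 32, 24, 20, 20)`.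
-/

set_option autoImplicit false
set_option maxRecDepth 100000

namespace Cfsg.Agent.R2.PX.A

open Equiv Module

/-- the alternating group of degree 8 -/
abbrev A8 : Type := ↥(alternatingGroup (Fin 8))

/-- `(0 1)(2 3)` -/
def a1 : A8 := ⟨swap 0 1 * swap 2 3, by rw [Equiv.Perm.mem_alternatingGroup]; decide +kernel⟩
/-- `(0 2)(1 3)` -/
def a2 : A8 := ⟨swap 0 2 * swap 1 3, by rw [Equiv.Perm.mem_alternatingGroup]; decide +kernel⟩
/-- `(1 2 3)` -/
def s1 : A8 := ⟨swap 1 2 * swap 2 3, by rw [Equiv.Perm.mem_alternatingGroup]; decide +kernel⟩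
/-- `(4 5)(6 7)` -/
def b1 : A8 := ⟨swap 4 5 * swap 6 7, by rw [Equiv.Perm.mem_alternatingGroup]; decide +kernel⟩
/-- `(4 6)(5 7)` -/
def b2 : A8 := ⟨swap 4 6 * swap 5 7, by rw [Equiv.Perm.mem_alternatingGroup]; decide +kernel⟩
/-- `(5 6 7)` -/
def s2 : A8 := ⟨swap 5 6 * swap 6 7, by rw [Equiv.Perm.mem_alternatingGroup]; decide +kernel⟩
/-- `(1 2)(5 6)` -/
def t1 : A8 := ⟨swap 1 2 * swap 5 6, by rw [Equiv.Perm.mem_alternatingGroup]; decide +kernel⟩
/-- `(0 1 2)` -/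
def p1 : A8 := ⟨swap 0 1 * swap 1 2, by rw [Equiv.Perm.mem_alternatingGroup]; decide +kernel⟩
/-- `(3 4 5)` -/
def p2 : A8 := ⟨swap 3 4 * swap 4 5, by rw [Equiv.Perm.mem_alternatingGroup]; decide +kernel⟩
/-- `(0 1)(3 4)` -/
def t2 : A8 := ⟨swap 0 1 * swap 3 4, by rw [Equiv.Perm.mem_alternatingGroup]; decide +kernel⟩
/-- `(0 1)(2 3)(4 5)(6 7)` -/
def e1 : A8 := ⟨swap 0 1 * swap 2 3 * swap 4 5 * swap 6 7, by rw [Equiv.Perm.mem_alternatingGroup]; decide +kernel⟩
/-- `(0 2)(1 3)(4 6)(5 7)` -/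
def e2 : A8 := ⟨swap 0 2 * swap 1 3 * swap 4 6 * swap 5 7, by rw [Equiv.Perm.mem_alternatingGroup]; decide +kernel⟩
/-- `(0 4)(1 5)(2 6)(3 7)` -/
def c1 : A8 := ⟨swap 0 4 * swap 1 5 * swap 2 6 * swap 3 7, by rw [Equiv.Perm.mem_alternatingGroup]; decide +kernel⟩

universe u v
variable {K : Type u} [Field K] {M : Type v} [AddCommGroup M] [Module K M]

/-- dimension and dimensions of the fixed spaces of the elements of types `2², 2⁴, 3, 3²` -/
structure Pt (ρ : Representation K A8 M) (d d2 d24 d3 d33 : ℕ) : Prop where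
  dim : finrank K M = d
  c2 : ∀ a : A8, (a : Perm (Fin 8)).cycleType = {2, 2} → nn ρ [a] = d2
  c24 : ∀ a : A8, (a : Perm (Fin 8)).cycleType = {2, 2, 2, 2} → nn ρ [a] = d24
  c3 : ∀ a : A8, (a : Perm (Fin 8)).cycleType = {3} → nn ρ [a] = d3
  c33 : ∀ a : A8, (a : Perm (Fin 8)).cycleType = {3, 3} → nn ρ [a] = d33

variable {ρ : Representation K A8 M}

theorem dimL [FiniteDimensional K M] (h2 : (2 : K) ≠ 0) (h3 : (3 : K) ≠ 0) (h : Pt ρ 133 69 69 43 43) :
    nn ρ [b2, b1, s2, s1, a2, a1] = 1 := by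
  have h0 : nn ρ [] = 133 := by rw [nn_nil, h.dim]
  -- involutions
  have ea1 := h.c2 a1 (by decide +kernel)
  have ea2 := h.c2 a2 (by decide +kernel)
  have ea3 := h.c2 (a1 * a2) (by decide +kernel)
  have eb1 := h.c2 b1 (by decide +kernel)
  have eb2 := h.c2 b2 (by decide +kernel)
  have eb3 := h.c2 (b1 * b2) (by decide +kernel)
  have x11 := h.c24 (b1 * a1) (by decide +kernel)
  have x12 := h.c24 (b1 * a2) (by decide +kernel)
  have x13 := h.c24 (b1 * (a1 * a2)) (by decide +kernel)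
  have x21 := h.c24 (b2 * a1) (by decide +kernel)
  have x22 := h.c24 (b2 * a2) (by decide +kernel)
  have x23 := h.c24 (b2 * (a1 * a2)) (by decide +kernel)
  have x31 := h.c24 (b1 * b2 * a1) (by decide +kernel)
  have x32 := h.c24 (b1 * b2 * a2) (by decide +kernel)
  have x33 := h.c24 (b1 * b2 * (a1 * a2)) (by decide +kernel)
  have f1 := n4 (ρ := ρ) h2 (l := []) (a := a1) (b := a2) (by decide +kernel)
  have fb := n4 (ρ := ρ) h2 (l := []) (a := b1) (b := b2) (by decide +kernel)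
  have y11 := n4 (ρ := ρ) h2 (l := []) (a := b1) (b := a1) (by decide +kernel)
  have y12 := n4 (ρ := ρ) h2 (l := []) (a := b1) (b := a2) (by decide +kernel)
  have y13 := n4 (ρ := ρ) h2 (l := []) (a := b1) (b := a1 * a2) (by decide +kernel)
  have y21 := n4 (ρ := ρ) h2 (l := []) (a := b2) (b := a1) (by decide +kernel)
  have y22 := n4 (ρ := ρ) h2 (l := []) (a := b2) (b := a2) (by decide +kernel)
  have y23 := n4 (ρ := ρ) h2 (l := []) (a := b2) (b := a1 * a2) (by decide +kernel)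
  have y31 := n4 (ρ := ρ) h2 (l := []) (a := b1 * b2) (b := a1) (by decide +kernel)
  have y32 := n4 (ρ := ρ) h2 (l := []) (a := b1 * b2) (b := a2) (by decide +kernel)
  have y33 := n4 (ρ := ρ) h2 (l := []) (a := b1 * b2) (b := a1 * a2) (by decide +kernel)
  have z1 := n4 (ρ := ρ) h2 (l := [b1]) (a := a1) (b := a2) (by decide +kernel)
  have z2 := n4 (ρ := ρ) h2 (l := [b2]) (a := a1) (b := a2) (by decide +kernel)
  have z3 := n4 (ρ := ρ) h2 (l := [b1 * b2]) (a := a1) (b := a2) (by decide +kernel)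
  have w1 : nn ρ [a2, a1, b1] = nn ρ [b1, a2, a1] := nn_eq (by decide +kernel)
  have w2 : nn ρ [a2, a1, b2] = nn ρ [b2, a2, a1] := nn_eq (by decide +kernel)
  have w3 : nn ρ [a2, a1, b1 * b2] = nn ρ [b1 * b2, a2, a1] := nn_eq (by decide +kernel)
  have f2 := n4 (ρ := ρ) h2 (l := [a2, a1]) (a := b1) (b := b2) (by decide +kernel)
  -- elements of order 3
  have es1 := h.c3 s1 (by decide +kernel)
  have es2 := h.c33 (s1 * s2) (by decide +kernel)
  have es3 := h.c33 (s1 * s2 * s2) (by decide +kernel)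
  have g1 := nA4 (ρ := ρ) h2 (l := []) (a := a1) (b := a2) (s := s1) (by decide +kernel)
  have g2 := nA4 (ρ := ρ) h2 (l := []) (a := a1) (b := a2) (s := s1 * s2) (by decide +kernel)
  have g3 := nA4 (ρ := ρ) h2 (l := []) (a := a1) (b := a2) (s := s1 * s2 * s2) (by decide +kernel)
  have w4 : nn ρ [a2, a1, s1] = nn ρ [s1, a2, a1] := nn_eq (by decide +kernel)
  have w5 : nn ρ [a2, a1, s1 * s2] = nn ρ [s1 * s2, a2, a1] := nn_eq (by decide +kernel)
  have w6 : nn ρ [a2, a1, s1 * s2 * s2] = nn ρ [s1 * s2 * s2, a2, a1] := nn_eq (by decide +kernel)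
  have k1 := n9 (ρ := ρ) h3 (l := [a2, a1]) (a := s1) (b := s2) (by decide +kernel)
  have k2 := nS3 (ρ := ρ) h2 h3 (l := [a2, a1]) (s := s2) (t := t1) (by decide +kernel)
  have k3 := nA4 (ρ := ρ) h2 (l := [a2, a1]) (a := b1) (b := b2) (s := s2) (by decide +kernel)
  have k4 := nA4 (ρ := ρ) h2 (l := [b2, b1]) (a := a1) (b := a2) (s := s1) (by decide +kernel)
  have k5 := nA4 (ρ := ρ) h2 (l := [s1, a2, a1]) (a := b1) (b := b2) (s := s2) (by decide +kernel)
  have k6 := nA4 (ρ := ρ) h2 (l := [a2, a1]) (a := b1) (b := b2) (s := s1 * s2) (by decide +kernel)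
  have w7 : nn ρ [a2, a1, b2, b1] = nn ρ [b2, b1, a2, a1] := nn_eq (by decide +kernel)
  have w8 : nn ρ [a2, a1, s1, b2, b1] = nn ρ [b2, b1, s1, a2, a1] := nn_eq (by decide +kernel)
  have w9 := nn_conj (ρ := ρ) [s1, b2, b1] c1
  have e9 : ([s1, b2, b1].map fun h => c1 * h * c1⁻¹) = [s2, a2, a1] := by decide +kernel
  rw [e9] at w9
  have w10 : nn ρ [b2, b1, s2, s1, a2, a1] ≤ nn ρ [b2, b1, s1 * s2, a2, a1] := nn_le (by decide +kernel)
  omega

end Cfsg.Agent.R2.PX.A
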