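import Mathlib

/-!
# Pattern X of S5771, Part A: dimensions of fixed spaces (helper7)

Exact formulas for the dimensions of fixed spaces for the groups `2²`, `S₃`, `3²`, `A₄` acting on a stable subspace `U`
(characteristic not 2, 3):

* `four_group` : `dim U^a + dim U^b + dim U^{ab} = dim U + 2 dim U^{a,b}`;
* `sym3` : `2 dim U^t + dim U^s = 2 dim U^{s,t} + dim U`;
* `nine` : `dim U^a + dim U^b + dim U^{ab} + dim U^{abb} = dim U + 3 dim U^{a,b}`;
* `alt4` : `3 dim U^{s,a,b} + dim U = 3 dim U^s + dim U^{a,b}`.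
-/

set_option autoImplicit false

namespace Cfsg.Agent.R2.PX.A

open Module

universe u v
variable {K : Type u} [Field K] {M : Type v} [AddCommGroup M] [Module K M]

/-- the fixed space -/
def fx (A : Module.End K M) : Submodule K M := Module.End.eigenspace A 1

theorem mem_fx {A : Module.End K M} {v : M} : v ∈ fx A ↔ A v = v := by
  rw [fx, Module.End.mem_eigenspace_iff, one_smul]

/-- the eigenspace of `-1` -/
def ng (A : Module.End K M) : Submodule K M := Module.End.eigenspace A (-1)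

theorem mem_ng {A : Module.End K M} {v : M} : v ∈ ng A ↔ A v = -v := by
  rw [ng, Module.End.mem_eigenspace_iff, neg_smul, one_smul]

/-- the kernel of `1 + A + A²` -/
def kr (A : Module.End K M) : Submodule K M := LinearMap.ker (1 + A + A * A)

theorem mem_kr {A : Module.End K M} {v : M} : v ∈ kr A ↔ v + A v + A (A v) = 0 := by
  rw [kr, LinearMap.mem_ker]
  rfl

variable [FiniteDimensional K M]

/-- **idempotents** -/
theorem idem (U : Submodule K M) (e : Module.End K M) (he : ∀ u ∈ U, e (e u) = e u) (hU : ∀ u ∈ U, e u ∈ U) :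
    finrank K ↥U = finrank K ↥(U ⊓ fx e) + finrank K ↥(U ⊓ LinearMap.ker e) := by
  have h1 := Submodule.finrank_sup_add_finrank_inf_eq (U ⊓ fx e) (U ⊓ LinearMap.ker e)
  have h2 : (U ⊓ fx e) ⊔ (U ⊓ LinearMap.ker e) = U := by
    apply le_antisymm
    · exact sup_le inf_le_left inf_le_left
    · intro u hu
      rw [Submodule.mem_sup]
      refine ⟨e u, ⟨hU u hu, mem_fx.2 (he u hu)⟩, u - e u, ⟨U.sub_mem hu (hU u hu), ?_⟩, by abel⟩
      rw [SetLike.mem_coe, LinearMap.mem_ker, map_sub, he u hu, sub_self]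
  have h3 : (U ⊓ fx e) ⊓ (U ⊓ LinearMap.ker e) = ⊥ := by
    rw [eq_bot_iff]
    rintro u ⟨⟨_, h4⟩, ⟨_, h5⟩⟩
    rw [SetLike.mem_coe, mem_fx] at h4
    rw [SetLike.mem_coe, LinearMap.mem_ker] at h5
    rw [Submodule.mem_bot, ← h4, h5]
  rw [h2, h3, finrank_bot, add_zero] at h1
  exact h1

/-- injective maps between subspaces -/
theorem finrank_le_of (U W : Submodule K M) (f : Module.End K M) (h : ∀ u ∈ U, f u ∈ W)
    (hinj : ∀ u ∈ U, f u = 0 → u = 0) : finrank K ↥U ≤ finrank K ↥W := by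
  refine LinearMap.finrank_le_finrank_of_injective (f := f.restrict h) ?_
  rw [← LinearMap.ker_eq_bot, eq_bot_iff]
  rintro ⟨u, hu⟩ h1
  rw [LinearMap.mem_ker] at h1
  rw [Submodule.mem_bot]
  exact Subtype.ext (hinj u hu (congrArg Subtype.val h1))

section two
variable (h2 : (2 : K) ≠ 0)
include h2

omit [FiniteDimensional K M] in
theorem half_half (v : M) : (2 : K)⁻¹ • (v + v) = v := by
  rw [← two_smul K, smul_smul, inv_mul_cancel₀ h2, one_smul]

omit [FiniteDimensional K M] in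
theorem eq_zero_of_two {v : M} (h : v + v = 0) : v = 0 := by
  rw [← half_half h2 v, h, smul_zero]

theorem inv2 (U : Submodule K M) {A : Module.End K M} (hA : ∀ v, A (A v) = v) (hU : ∀ u ∈ U, A u ∈ U) :
    finrank K ↥U = finrank K ↥(U ⊓ fx A) + finrank K ↥(U ⊓ ng A) := by
  have h1 := idem U ((2 : K)⁻¹ • (1 + A)) (fun u _ => by
    show (2 : K)⁻¹ • ((2 : K)⁻¹ • (u + A u) + A ((2 : K)⁻¹ • (u + A u))) = (2 : K)⁻¹ • (u + A u)
    rw [map_smul, map_add, hA, ← smul_add, add_comm (A u) u, half_half h2]) (fun u hu =>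
      U.smul_mem _ (U.add_mem hu (hU u hu)))
  have h3 : fx ((2 : K)⁻¹ • (1 + A)) = fx A := by
    ext u
    rw [mem_fx, mem_fx]
    show (2 : K)⁻¹ • (u + A u) = u ↔ _
    constructor
    · intro h
      have h4 : u + A u = u + u := by
        have h5 : (2 : K) • ((2 : K)⁻¹ • (u + A u)) = (2 : K) • u := by rw [h]
        rwa [smul_smul, mul_inv_cancel₀ h2, one_smul, two_smul] at h5
      exact add_left_cancel h4
    · intro h
      rw [h, half_half h2]
  have h4 : LinearMap.ker ((2 : K)⁻¹ • (1 + A)) = ng A := by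
    ext u
    rw [LinearMap.mem_ker, mem_ng]
    show (2 : K)⁻¹ • (u + A u) = 0 ↔ _
    rw [smul_eq_zero_iff_right (inv_ne_zero h2)]
    constructor
    · intro h; exact eq_neg_of_add_eq_zero_right h
    · intro h; rw [h, add_neg_cancel]
  rw [h3, h4] at h1
  exact h1

/-- **the four-group** -/
theorem four_group (U : Submodule K M) {A B : Module.End K M} (hA : ∀ v, A (A v) = v) (hB : ∀ v, B (B v) = v)
    (hAB : ∀ v, A (B v) = B (A v)) (UA : ∀ u ∈ U, A u ∈ U) (UB : ∀ u ∈ U, B u ∈ U) :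
    finrank K ↥(U ⊓ fx A) + finrank K ↥(U ⊓ fx B) + finrank K ↥(U ⊓ fx (A * B)) =
      finrank K ↥U + 2 * finrank K ↥(U ⊓ fx A ⊓ fx B) := by
  have e1 := inv2 h2 U hA UA
  have e2 := inv2 h2 (U ⊓ fx A) hB (fun u hu => ⟨UB u hu.1, mem_fx.2 (by rw [hAB, mem_fx.1 hu.2])⟩)
  have e3 := inv2 h2 (U ⊓ fx B) hA (fun u hu => ⟨UA u hu.1, mem_fx.2 (by rw [← hAB, mem_fx.1 hu.2])⟩)
  have e4 := inv2 h2 (U ⊓ ng A) hB (fun u hu => ⟨UB u hu.1, mem_ng.2 (by rw [hAB, mem_ng.1 hu.2, map_neg])⟩)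
  have e5 := inv2 h2 (U ⊓ fx (A * B)) hA (fun u hu => ⟨UA u hu.1, mem_fx.2 (by
    have h3 : A (B u) = u := mem_fx.1 hu.2
    show A (B (A u)) = A u
    rw [← hAB, h3])⟩)
  have f1 : U ⊓ fx B ⊓ fx A = U ⊓ fx A ⊓ fx B := by rw [inf_assoc, inf_comm (fx B), ← inf_assoc]
  have f2 : U ⊓ fx B ⊓ ng A = U ⊓ ng A ⊓ fx B := by rw [inf_assoc, inf_comm (fx B), ← inf_assoc]
  have f3 : U ⊓ fx (A * B) ⊓ fx A = U ⊓ fx A ⊓ fx B := by
    ext u
    simp only [Submodule.mem_inf, mem_fx, Module.End.mul_apply]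
    constructor
    · rintro ⟨⟨h1, h2⟩, h3⟩
      refine ⟨⟨h1, h3⟩, ?_⟩
      have h4 : A (A (B u)) = A u := by rw [h2]
      rw [hA, h3] at h4
      exact h4
    · rintro ⟨⟨h1, h2⟩, h3⟩
      exact ⟨⟨h1, by rw [h3, h2]⟩, h2⟩
  have f4 : U ⊓ fx (A * B) ⊓ ng A = U ⊓ ng A ⊓ ng B := by
    ext u
    simp only [Submodule.mem_inf, mem_fx, mem_ng, Module.End.mul_apply]
    constructor
    · rintro ⟨⟨h1, h2⟩, h3⟩
      refine ⟨⟨h1, h3⟩, ?_⟩
      have h4 : A (A (B u)) = A u := by rw [h2]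
      rw [hA, h3] at h4
      exact h4
    · rintro ⟨⟨h1, h2⟩, h3⟩
      exact ⟨⟨h1, by rw [h3, map_neg, h2, neg_neg]⟩, h2⟩
  rw [f1, f2] at e3
  rw [f3, f4] at e5
  omega

end two

section three
variable (h3 : (3 : K) ≠ 0)
include h3

omit [FiniteDimensional K M] in
theorem third (v : M) : (3 : K)⁻¹ • (v + v + v) = v := by
  have : v + v + v = (3 : K) • v := by
    have h : (3 : K) = 1 + 1 + 1 := by norm_num
    rw [h, add_smul, add_smul, one_smul]
  rw [this, smul_smul, inv_mul_cancel₀ h3, one_smul]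

/-- the projection onto the fixed space of an element of order 3 -/
noncomputable def e3 (K : Type u) [Field K] {M : Type v} [AddCommGroup M] [Module K M] (A : Module.End K M) :
    Module.End K M := (3 : K)⁻¹ • (1 + A + A * A)

omit [FiniteDimensional K M] h3 in
theorem e3_apply (A : Module.End K M) (v : M) : e3 K A v = (3 : K)⁻¹ • (v + A v + A (A v)) := rfl

omit [FiniteDimensional K M] in
theorem fx_e3 {A : Module.End K M} (hA : ∀ v, A (A (A v)) = v) : fx (e3 K A) = fx A := by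
  ext u
  rw [mem_fx, mem_fx, e3_apply]
  constructor
  · intro h
    have h4 : A ((3 : K)⁻¹ • (u + A u + A (A u))) = A u := by rw [h]
    rw [map_smul, map_add, map_add, hA] at h4
    rw [← h4, ← h]
    congr 1
    rw [h]
    abel
  · intro h
    rw [h, h, third h3]

omit [FiniteDimensional K M] in
theorem ker_e3 (A : Module.End K M) : LinearMap.ker (e3 K A) = kr A := by
  ext u
  rw [LinearMap.mem_ker, mem_kr, e3_apply, smul_eq_zero_iff_right (inv_ne_zero h3)]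

omit [FiniteDimensional K M] in
theorem e3_idem {A : Module.End K M} (hA : ∀ v, A (A (A v)) = v) (u : M) : e3 K A (e3 K A u) = e3 K A u := by
  have h1 : e3 K A u ∈ fx (e3 K A) := by
    rw [fx_e3 h3 hA, mem_fx, e3_apply, map_smul, map_add, map_add, hA]
    congr 1
    abel
  exact mem_fx.1 h1

theorem idem3 (U : Submodule K M) {A : Module.End K M} (hA : ∀ v, A (A (A v)) = v) (hU : ∀ u ∈ U, e3 K A u ∈ U) :
    finrank K ↥U = finrank K ↥(U ⊓ fx A) + finrank K ↥(U ⊓ kr A) := by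
  have h1 := idem U (e3 K A) (fun u _ => e3_idem h3 hA u) hU
  rwa [fx_e3 h3 hA, ker_e3 h3] at h1

omit [FiniteDimensional K M] h3 in
theorem e3_mem {U : Submodule K M} {A : Module.End K M} (hU : ∀ u ∈ U, A u ∈ U) : ∀ u ∈ U, e3 K A u ∈ U :=
  fun u hu => U.smul_mem _ (U.add_mem (U.add_mem hu (hU u hu)) (hU _ (hU u hu)))

/-- **the symmetric group of degree 3** -/
theorem sym3 (h2 : (2 : K) ≠ 0) (U : Submodule K M) {S T : Module.End K M} (hS : ∀ v, S (S (S v)) = v)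
    (hT : ∀ v, T (T v) = v) (hST : ∀ v, T (S v) = S (S (T v))) (US : ∀ u ∈ U, S u ∈ U) (UT : ∀ u ∈ U, T u ∈ U) :
    2 * finrank K ↥(U ⊓ fx T) + finrank K ↥(U ⊓ fx S) = 2 * finrank K ↥(U ⊓ fx S ⊓ fx T) + finrank K ↥U := by
  have hTSS : ∀ v, T (S (S v)) = S (T v) := fun v => by rw [hST, hST, hS]
  have e1 := idem3 h3 U hS (e3_mem US)
  have hTk : ∀ u ∈ U ⊓ kr S, T u ∈ U ⊓ kr S := by
    rintro u ⟨hu, hk⟩
    refine ⟨UT u hu, mem_kr.2 ?_⟩
    have h4 : T (u + S u + S (S u)) = 0 := by rw [mem_kr.1 hk, map_zero]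
    rw [map_add, map_add, hTSS, hST] at h4
    rw [← h4]
    abel
  have e2 := inv2 h2 (U ⊓ kr S) hT hTk
  have hTe : ∀ u ∈ U ⊓ fx T, e3 K S u ∈ U ⊓ fx T := by
    rintro u ⟨hu, ht⟩
    refine ⟨e3_mem US u hu, mem_fx.2 ?_⟩
    rw [e3_apply, map_smul, map_add, map_add, hTSS, hST, mem_fx.1 ht]
    congr 1
    abel
  have e4 := idem3 h3 (U ⊓ fx T) hS hTe
  have f1 : U ⊓ fx T ⊓ fx S = U ⊓ fx S ⊓ fx T := by rw [inf_assoc, inf_comm (fx T), ← inf_assoc]
  have f2 : U ⊓ fx T ⊓ kr S = U ⊓ kr S ⊓ fx T := by rw [inf_assoc, inf_comm (fx T), ← inf_assoc]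
  rw [f1, f2] at e4
  -- the operator `S - S²`
  have hsq : ∀ u ∈ kr S, (S - S * S) ((S - S * S) u) = -(u + u + u) := by
    intro u hu
    have h4 := mem_kr.1 hu
    show S (S u - S (S u)) - S (S (S u - S (S u))) = _
    simp only [map_sub, hS]
    have h5 : S (S u) = -(u + S u) := by
      rw [eq_neg_iff_add_eq_zero, ← h4]; abel
    rw [h5]
    abel
  have hinj : ∀ u ∈ kr S, (S - S * S) u = 0 → u = 0 := by
    intro u hu h4
    have h5 := hsq u hu
    rw [h4, map_zero] at h5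
    rw [← third h3 u, neg_eq_zero.1 h5.symm, smul_zero]
  have hmem : ∀ u ∈ U ⊓ kr S, (S - S * S) u ∈ U ⊓ kr S := by
    rintro u ⟨hu, hk⟩
    refine ⟨U.sub_mem (US u hu) (US _ (US u hu)), mem_kr.2 ?_⟩
    have h4 := mem_kr.1 hk
    show (S u - S (S u)) + S (S u - S (S u)) + S (S (S u - S (S u))) = 0
    simp only [map_sub, hS]
    abel
  have l1 : finrank K ↥(U ⊓ kr S ⊓ fx T) ≤ finrank K ↥(U ⊓ kr S ⊓ ng T) := by
    refine finrank_le_of _ _ (S - S * S) ?_ (fun u hu => hinj u hu.1.2)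
    rintro u ⟨hu, ht⟩
    refine ⟨hmem u hu, mem_ng.2 ?_⟩
    show T (S u - S (S u)) = -(S u - S (S u))
    rw [map_sub, hTSS, hST, mem_fx.1 ht]
    abel
  have l2 : finrank K ↥(U ⊓ kr S ⊓ ng T) ≤ finrank K ↥(U ⊓ kr S ⊓ fx T) := by
    refine finrank_le_of _ _ (S - S * S) ?_ (fun u hu => hinj u hu.1.2)
    rintro u ⟨hu, ht⟩
    refine ⟨hmem u hu, mem_fx.2 ?_⟩
    show T (S u - S (S u)) = S u - S (S u)
    rw [map_sub, hTSS, hST, mem_ng.1 ht, map_neg, map_neg]
    abel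
  omega

/-- **the elementary abelian group of order 9** -/
theorem nine (U : Submodule K M) {A B : Module.End K M} (hA : ∀ v, A (A (A v)) = v) (hB : ∀ v, B (B (B v)) = v)
    (hAB : ∀ v, A (B v) = B (A v)) (UA : ∀ u ∈ U, A u ∈ U) (UB : ∀ u ∈ U, B u ∈ U) :
    finrank K ↥(U ⊓ fx A) + finrank K ↥(U ⊓ fx B) + finrank K ↥(U ⊓ fx (A * B)) + finrank K ↥(U ⊓ fx (A * B * B)) =
      finrank K ↥U + 3 * finrank K ↥(U ⊓ fx A ⊓ fx B) := by
  have hC : ∀ v, (A * B) ((A * B) ((A * B) v)) = v := fun v => by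
    simp only [Module.End.mul_apply, hAB, hA, hB]
  have e1 := idem3 h3 U hA (e3_mem UA)
  have e2 := idem3 h3 (U ⊓ kr A) hB (e3_mem fun u hu => ⟨UB u hu.1, mem_kr.2 (by
    have h4 : B (u + A u + A (A u)) = 0 := by rw [mem_kr.1 hu.2, map_zero]
    rw [map_add, map_add] at h4
    rw [hAB, hAB, h4])⟩)
  have fxA_mem : ∀ u ∈ U ⊓ fx A, B u ∈ U ⊓ fx A := fun u hu => ⟨UB u hu.1, mem_fx.2 (by rw [hAB, mem_fx.1 hu.2])⟩
  have fxB_mem : ∀ u ∈ U ⊓ fx B, A u ∈ U ⊓ fx B := fun u hu =>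
    ⟨UA u hu.1, mem_fx.2 (by rw [← hAB, mem_fx.1 hu.2])⟩
  have e3' := idem3 h3 (U ⊓ fx B) hA (e3_mem fxB_mem)
  have hW : ∀ u ∈ U ⊓ kr A ⊓ kr B, (A * B) u ∈ U ⊓ kr A ⊓ kr B := by
    rintro u ⟨⟨hu, h4⟩, h5⟩
    rw [SetLike.mem_coe, mem_kr] at h4 h5
    refine ⟨⟨UA _ (UB u hu), mem_kr.2 ?_⟩, mem_kr.2 ?_⟩
    · have h6 : B (A (u + A u + A (A u))) = 0 := by rw [h4, map_zero, map_zero]
      rw [← h6]
      simp only [Module.End.mul_apply, map_add, hAB]
    · have h6 : B (A (u + B u + B (B u))) = 0 := by rw [h5, map_zero, map_zero]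
      rw [← h6]
      simp only [Module.End.mul_apply, map_add, hAB]
  have e4 := idem3 h3 (U ⊓ kr A ⊓ kr B) hC (e3_mem hW)
  have hCA : ∀ u ∈ U ⊓ fx (A * B), A u ∈ U ⊓ fx (A * B) := fun u hu => ⟨UA u hu.1, mem_fx.2 (by
    have h4 : A (B u) = u := mem_fx.1 hu.2
    show A (B (A u)) = A u
    rw [← hAB, h4])⟩
  have e5 := idem3 h3 (U ⊓ fx (A * B)) hA (e3_mem hCA)
  have hDA : ∀ u ∈ U ⊓ fx (A * B * B), A u ∈ U ⊓ fx (A * B * B) := fun u hu => ⟨UA u hu.1, mem_fx.2 (by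
    have h4 : A (B (B u)) = u := mem_fx.1 hu.2
    show A (B (B (A u))) = A u
    rw [← hAB, ← hAB, h4])⟩
  have e6 := idem3 h3 (U ⊓ fx (A * B * B)) hA (e3_mem hDA)
  have f1 : U ⊓ fx B ⊓ fx A = U ⊓ fx A ⊓ fx B := by rw [inf_assoc, inf_comm (fx B), ← inf_assoc]
  have f2 : U ⊓ fx B ⊓ kr A = U ⊓ kr A ⊓ fx B := by rw [inf_assoc, inf_comm (fx B), ← inf_assoc]
  have f3 : U ⊓ fx (A * B) ⊓ fx A = U ⊓ fx A ⊓ fx B := by
    ext u
    simp only [Submodule.mem_inf, mem_fx, Module.End.mul_apply]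
    constructor
    · rintro ⟨⟨h1, h2⟩, h4⟩
      exact ⟨⟨h1, h4⟩, by rw [hAB, h4] at h2; exact h2⟩
    · rintro ⟨⟨h1, h2⟩, h4⟩
      exact ⟨⟨h1, by rw [h4, h2]⟩, h2⟩
  have f4 : U ⊓ kr A ⊓ kr B ⊓ fx (A * B) = U ⊓ fx (A * B) ⊓ kr A := by
    ext u
    simp only [Submodule.mem_inf, mem_fx, mem_kr, Module.End.mul_apply]
    constructor
    · rintro ⟨⟨⟨h1, h2⟩, h4⟩, h5⟩
      exact ⟨⟨h1, h5⟩, h2⟩
    · rintro ⟨⟨h1, h2⟩, h4⟩
      refine ⟨⟨⟨h1, h4⟩, ?_⟩, h2⟩
      have h5 : B u = A (A u) := by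
        have h6 : A (A (A (B u))) = A (A u) := by rw [h2]
        rwa [hA] at h6
      have h6 : B (B u) = A u := by
        rw [h5, ← hAB, ← hAB, h2]
      rw [h6, h5, ← h4]
      abel
  have f5 : U ⊓ fx (A * B * B) ⊓ fx A = U ⊓ fx A ⊓ fx B := by
    ext u
    simp only [Submodule.mem_inf, mem_fx, Module.End.mul_apply]
    constructor
    · rintro ⟨⟨h1, h2⟩, h4⟩
      refine ⟨⟨h1, h4⟩, ?_⟩
      have h5 : B (B u) = u := by rw [hAB, hAB, h4] at h2; exact h2
      have h6 : B (B (B u)) = B u := by rw [h5]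
      rw [hB] at h6
      exact h6.symm
    · rintro ⟨⟨h1, h2⟩, h4⟩
      exact ⟨⟨h1, by rw [h4, h4, h2]⟩, h2⟩
  have f6 : U ⊓ kr A ⊓ kr B ⊓ kr (A * B) = U ⊓ fx (A * B * B) ⊓ kr A := by
    ext u
    simp only [Submodule.mem_inf, mem_fx, mem_kr, Module.End.mul_apply]
    constructor
    · rintro ⟨⟨⟨h1, h2⟩, h4⟩, h5⟩
      refine ⟨⟨h1, ?_⟩, h2⟩
      have k1 : B (u + A u + A (A u)) = 0 := by rw [h2, map_zero]
      have k2 : B (B (u + A u + A (A u))) = 0 := by rw [h2, map_zero, map_zero]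
      simp only [map_add, hAB] at k1 k2 h5 ⊢
      -- `C u + C² u = 2 u`
      have k3 : B (B (A u)) + B (A (A u)) = u + u := by
        linear_combination (norm := module) k1 + k2 - h5 - h4
      have k4 : A (B (B (B (B (A u)) + B (A (A u))))) = A (B (B (u + u))) := by rw [k3]
      simp only [map_add, hAB, hA, hB] at k4
      have k5 : (3 : K) • B (B (A u)) = (3 : K) • u := by
        linear_combination (norm := module) k3 - k4
      exact smul_right_injective M h3 k5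
    · rintro ⟨⟨h1, h2⟩, h4⟩
      have h5 : B u = A u := by
        have h6 : A (A (A (B (B u)))) = A (A u) := by rw [h2]
        rw [hA] at h6
        have h7 : B (B (B u)) = B (A (A u)) := by rw [h6]
        rw [hB] at h7
        have h8 : B (A (A u)) = u := h7.symm
        have h9 : A (B (A (A u))) = A u := by rw [h8]
        rw [hAB, hA] at h9
        exact h9
      have h6 : B (B u) = A (A u) := by rw [h5, ← hAB, h5]
      refine ⟨⟨⟨h1, h4⟩, by rw [h6, h5, h4]⟩, ?_⟩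
      rw [h5]
      have h7 : A (B (A (A u))) = A u := by
        rw [hAB, hA, h5]
      rw [h7, ← h4]
      abel
  rw [f1, f2] at e3'
  rw [f4, f6] at e4
  rw [f3] at e5
  rw [f5] at e6
  omega

end three

/-- **the alternating group of degree 4** -/
theorem alt4 (h2 : (2 : K) ≠ 0) (U : Submodule K M) {A B S : Module.End K M}
    (hA : ∀ v, A (A v) = v) (hB : ∀ v, B (B v) = v) (hS : ∀ v, S (S (S v)) = v) (hAB : ∀ v, A (B v) = B (A v))
    (hSA : ∀ v, S (A v) = B (S v)) (hSB : ∀ v, S (B v) = A (B (S v)))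
    (UA : ∀ u ∈ U, A u ∈ U) (UB : ∀ u ∈ U, B u ∈ U) (US : ∀ u ∈ U, S u ∈ U) :
    3 * finrank K ↥(U ⊓ fx S ⊓ fx A ⊓ fx B) + finrank K ↥U = 3 * finrank K ↥(U ⊓ fx S) + finrank K ↥(U ⊓ fx A ⊓ fx B) := by
  have e1 := inv2 h2 U hA UA
  have e2 := inv2 h2 (U ⊓ fx A) hB (fun u hu => ⟨UB u hu.1, mem_fx.2 (by rw [hAB, mem_fx.1 hu.2])⟩)
  have e4 := inv2 h2 (U ⊓ ng A) hB (fun u hu => ⟨UB u hu.1, mem_ng.2 (by rw [hAB, mem_ng.1 hu.2, map_neg])⟩)
  -- the three other eigenspaces are permuted by `S`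
  have l1 : finrank K ↥(U ⊓ fx A ⊓ ng B) ≤ finrank K ↥(U ⊓ ng A ⊓ fx B) := by
    refine finrank_le_of _ _ S ?_ (fun u _ h => by rw [← hS u, h, map_zero, map_zero])
    rintro u ⟨⟨hu, h4⟩, h5⟩
    rw [SetLike.mem_coe, mem_fx] at h4
    rw [SetLike.mem_coe, mem_ng] at h5
    have h6 : B (S u) = S u := by rw [← hSA, h4]
    refine ⟨⟨US u hu, mem_ng.2 ?_⟩, mem_fx.2 h6⟩
    have h7 := hSB u
    rw [h5, map_neg, h6] at h7
    exact h7.symm
  have l2 : finrank K ↥(U ⊓ ng A ⊓ fx B) ≤ finrank K ↥(U ⊓ ng A ⊓ ng B) := by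
    refine finrank_le_of _ _ S ?_ (fun u _ h => by rw [← hS u, h, map_zero, map_zero])
    rintro u ⟨⟨hu, h4⟩, h5⟩
    rw [SetLike.mem_coe, mem_ng] at h4
    rw [SetLike.mem_coe, mem_fx] at h5
    have h6 : B (S u) = - S u := by rw [← hSA, h4, map_neg]
    refine ⟨⟨US u hu, mem_ng.2 ?_⟩, mem_ng.2 h6⟩
    have h7 := hSB u
    rw [h5, h6, map_neg] at h7
    rw [h7, neg_neg, ← h7]
  have l3 : finrank K ↥(U ⊓ ng A ⊓ ng B) ≤ finrank K ↥(U ⊓ fx A ⊓ ng B) := by
    refine finrank_le_of _ _ S ?_ (fun u _ h => by rw [← hS u, h, map_zero, map_zero])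
    rintro u ⟨⟨hu, h4⟩, h5⟩
    rw [SetLike.mem_coe, mem_ng] at h4 h5
    have h6 : B (S u) = - S u := by rw [← hSA, h4, map_neg]
    refine ⟨⟨US u hu, mem_fx.2 ?_⟩, mem_ng.2 h6⟩
    have h7 := hSB u
    rw [h5, map_neg, h6, map_neg] at h7
    exact (neg_injective h7).symm
  -- the fixed space of `S`
  have h4 : (4 : K) ≠ 0 := by
    have h5 : (4 : K) = 2 * 2 := by norm_num
    rw [h5]; exact mul_ne_zero h2 h2
  have quarter : ∀ v : M, (4 : K)⁻¹ • (v + v + v + v) = v := by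
    intro v
    have h5 : v + v + v + v = (4 : K) • v := by module
    rw [h5, smul_smul, inv_mul_cancel₀ h4, one_smul]
  set e : Module.End K M := (4 : K)⁻¹ • (1 + A + B + A * B) with he
  have e_apply : ∀ v, e v = (4 : K)⁻¹ • (v + A v + B v + A (B v)) := fun v => rfl
  have hA' : ∀ v, B (A v) = A (B v) := fun v => (hAB v).symm
  have eA : ∀ v, A (e v) = e v := by
    intro v
    rw [e_apply, map_smul]
    simp only [map_add, hA]
    congr 1
    abel
  have eB : ∀ v, B (e v) = e v := by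
    intro v
    rw [e_apply, map_smul]
    simp only [map_add, hB, hA']
    congr 1
    abel
  have eSq : ∀ v, e (e v) = e v := by
    intro v
    rw [e_apply (e v), eA, eB, eA, quarter]
  have hfe : ∀ v, e v = v ↔ A v = v ∧ B v = v := by
    intro v
    constructor
    · intro h
      exact ⟨by rw [← h, eA], by rw [← h, eB]⟩
    · rintro ⟨h5, h6⟩
      rw [e_apply, h6, h5, quarter]
  have hSe : ∀ v, S v = v → S (e v) = e v := by
    intro v hv
    rw [e_apply, map_smul]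
    simp only [map_add, hSA, hSB, hv, hA', hB]
    congr 1
    abel
  have e5 := idem (U ⊓ fx S) e (fun u _ => eSq u) (fun u hu =>
    ⟨U.smul_mem _ (U.add_mem (U.add_mem (U.add_mem hu.1 (UA u hu.1)) (UB u hu.1)) (UA _ (UB u hu.1))),
      mem_fx.2 (hSe u (mem_fx.1 hu.2))⟩)
  have f1 : U ⊓ fx S ⊓ fx e = U ⊓ fx S ⊓ fx A ⊓ fx B := by
    ext u
    simp only [Submodule.mem_inf, mem_fx, hfe]
    tauto
  have l4 : finrank K ↥(U ⊓ fx S ⊓ LinearMap.ker e) ≤ finrank K ↥(U ⊓ fx A ⊓ ng B) := by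
    refine finrank_le_of _ _ (1 + A - B - A * B) ?_ ?_
    · rintro u ⟨⟨hu, -⟩, -⟩
      show u + A u - B u - A (B u) ∈ _
      refine ⟨⟨U.sub_mem (U.sub_mem (U.add_mem hu (UA u hu)) (UB u hu)) (UA _ (UB u hu)), mem_fx.2 ?_⟩, mem_ng.2 ?_⟩
      · simp only [map_add, map_sub, hA]
        abel
      · simp only [map_add, map_sub, hA', hB]
        abel
    · rintro v ⟨⟨-, hv⟩, h5⟩ h6
      rw [SetLike.mem_coe, mem_fx] at hv
      rw [SetLike.mem_coe, LinearMap.mem_ker, e_apply, smul_eq_zero_iff_right (inv_ne_zero h4)] at h5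
      have k1 : v + A v - B v - A (B v) = 0 := h6
      have k2 : S (v + A v - B v - A (B v)) = 0 := by rw [k1, map_zero]
      simp only [map_add, map_sub, hSA, hSB, hv, hA', hB] at k2
      have k3 : S (v + B v - A (B v) - A v) = 0 := by rw [k2, map_zero]
      simp only [map_add, map_sub, hSA, hSB, hv, hA', hB] at k3
      have k4 : (4 : K) • v = (4 : K) • (0 : M) := by
        linear_combination (norm := module) h5 + k1 + k2 + k3
      exact smul_right_injective M h4 k4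
  have l5 : finrank K ↥(U ⊓ fx A ⊓ ng B) ≤ finrank K ↥(U ⊓ fx S ⊓ LinearMap.ker e) := by
    refine finrank_le_of _ _ (1 + S + S * S) ?_ ?_
    · rintro u ⟨⟨hu, h5⟩, h6⟩
      rw [SetLike.mem_coe, mem_fx] at h5
      rw [SetLike.mem_coe, mem_ng] at h6
      have h7 : B (S u) = S u := by rw [← hSA, h5]
      have h8 : A (S u) = - S u := by
        have h9 := hSB u
        rw [h6, map_neg, h7] at h9
        exact h9.symm
      have h10 : B (S (S u)) = - S (S u) := by rw [← hSA, h8, map_neg]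
      have h11 : A (S (S u)) = - S (S u) := by
        have h12 := hSB (S u)
        rw [h7, h10, map_neg] at h12
        rw [h12, neg_neg, ← h12]
      show u + S u + S (S u) ∈ _
      refine ⟨⟨U.add_mem (U.add_mem hu (US u hu)) (US _ (US u hu)), mem_fx.2 ?_⟩, ?_⟩
      · rw [map_add, map_add, hS]; abel
      · rw [SetLike.mem_coe, LinearMap.mem_ker, e_apply]
        simp only [map_add, h5, h6, h7, h8, h10, h11, map_neg]
        rw [smul_eq_zero_iff_right (inv_ne_zero h4)]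
        abel
    · rintro u ⟨⟨hu, h5⟩, h6⟩ h13
      rw [SetLike.mem_coe, mem_fx] at h5
      rw [SetLike.mem_coe, mem_ng] at h6
      have h7 : B (S u) = S u := by rw [← hSA, h5]
      have h8 : A (S u) = - S u := by
        have h9 := hSB u
        rw [h6, map_neg, h7] at h9
        exact h9.symm
      have h10 : B (S (S u)) = - S (S u) := by rw [← hSA, h8, map_neg]
      have h11 : A (S (S u)) = - S (S u) := by
        have h12 := hSB (S u)
        rw [h7, h10, map_neg] at h12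
        rw [h12, neg_neg, ← h12]
      have k1 : u + S u + S (S u) = 0 := h13
      have k2 : A (u + S u + S (S u)) = 0 := by rw [k1, map_zero]
      rw [map_add, map_add, h5, h8, h11] at k2
      refine eq_zero_of_two h2 ?_
      linear_combination (norm := module) k1 + k2
  rw [f1] at e5
  omega

end Cfsg.Agent.R2.PX.A
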