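import Cfsg.Agent.R2.PX.A.Row
import Cfsg.Agent.H952.F4.Gen
import Cfsg.Agent.H952.F4.Scott
import Cfsg.Agent.R2.T1.Five.Lin

/-!
# Pattern X of S5771, Part A: fixed vectors of `A₆` (helper7)

* `gen6c` : generators of `A₆` of type `(2², 42, 5)`;
* `io : A₆ →* A₈`, `io_surj`;
* `six` : `A₆` has a non-zero fixed vector.
-/

set_option autoImplicit false
set_option maxRecDepth 100000

namespace Cfsg.Agent.R2.PX.A

open Equiv Module
open Cfsg.Agent.H952.F4 (ev es GenT)

theorem gen6c : GenT 6 {2, 2} {4, 2} {5} :=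
  Cfsg.Agent.H952.F4.Gen.genT_of (n := 4) (c[0, 1] * c[2, 3]) (c[0, 1, 2, 4] * c[3, 5]) (by decide +kernel)
    (by decide +kernel)
    ![[],
    [],
    [2, 0, 2, 2, 0, 2, 0, 3, 0, 2, 0],
    [3, 0, 2, 0, 3, 0, 2, 2, 0, 3, 0],
    [0, 2, 2, 0, 2, 0, 3, 0, 2, 0, 2],
    [2, 2, 0, 2, 0, 3, 0, 2, 2, 0]]
    (by decide +kernel) (by decide +kernel) (by decide +kernel) (by decide +kernel)

/-- `Fin 6` as a subset of `Fin 8` -/
def f6 : Fin 6 ≃ {i : Fin 8 // i.val < 6} where
  toFun i := ⟨⟨i.val, by omega⟩, i.2⟩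
  invFun i := ⟨i.1.val, i.2⟩
  left_inv _ := rfl
  right_inv _ := rfl

/-- the embedding of `A₆` in `A₈` -/
def io : ↥(alternatingGroup (Fin 6)) →* A8 :=
  ((Perm.extendDomainHom f6).comp (alternatingGroup (Fin 6)).subtype).codRestrict (alternatingGroup (Fin 8)) fun g => by
    rw [Perm.mem_alternatingGroup]
    show Perm.sign ((g : Perm (Fin 6)).extendDomain f6) = 1
    rw [Perm.sign_extendDomain]
    exact Perm.mem_alternatingGroup.1 g.2

theorem io_coe (g : ↥(alternatingGroup (Fin 6))) : (io g : Perm (Fin 8)) = (g : Perm (Fin 6)).extendDomain f6 := rfl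

theorem io_ct (g : ↥(alternatingGroup (Fin 6))) :
    (io g : Perm (Fin 8)).cycleType = (g : Perm (Fin 6)).cycleType := by
  rw [io_coe, Perm.cycleType_extendDomain]

theorem io_surj {g : A8} (h6 : (g : Perm (Fin 8)) 6 = 6) (h7 : (g : Perm (Fin 8)) 7 = 7) : ∃ h, io h = g := by
  have hp : ∀ i : Fin 8, (((g : Perm (Fin 8)) i).val < 6 ↔ i.val < 6) := by
    intro i
    constructor
    · intro h
      by_contra hi
      have : i = 6 ∨ i = 7 := by
        have h8 : i.val = 6 ∨ i.val = 7 := by omega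
        rcases h8 with h8 | h8
        · left; exact Fin.ext h8
        · right; exact Fin.ext h8
      rcases this with rfl | rfl
      · rw [h6] at h; exact absurd h (by decide)
      · rw [h7] at h; exact absurd h (by decide)
    · intro h
      by_contra hi
      have : (g : Perm (Fin 8)) i = 6 ∨ (g : Perm (Fin 8)) i = 7 := by
        have h8 : ((g : Perm (Fin 8)) i).val = 6 ∨ ((g : Perm (Fin 8)) i).val = 7 := by omega
        rcases h8 with h8 | h8
        · left; exact Fin.ext h8
        · right; exact Fin.ext h8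
      rcases this with h9 | h9
      · rw [← h6] at h9
        rw [(g : Perm (Fin 8)).injective h9] at h; exact absurd h (by decide)
      · rw [← h7] at h9
        rw [(g : Perm (Fin 8)).injective h9] at h; exact absurd h (by decide)
  set h0 : Perm (Fin 6) := f6.symm.permCongr ((g : Perm (Fin 8)).subtypePerm hp) with hh0
  have h1 : h0.extendDomain f6 = (g : Perm (Fin 8)) := by
    ext i
    by_cases hi : i.val < 6
    · rw [Perm.extendDomain_apply_subtype h0 f6 (h := hi)]
      rfl
    · rw [Perm.extendDomain_apply_not_subtype h0 f6 (h := hi)]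
      have : i = 6 ∨ i = 7 := by
        have h8 : i.val = 6 ∨ i.val = 7 := by omega
        rcases h8 with h8 | h8
        · left; exact Fin.ext h8
        · right; exact Fin.ext h8
      rcases this with rfl | rfl
      · rw [h6]
      · rw [h7]
  have h2 : Perm.sign h0 = 1 := by
    rw [← Perm.sign_extendDomain h0 f6, h1]
    exact Perm.mem_alternatingGroup.1 g.2
  exact ⟨⟨h0, Perm.mem_alternatingGroup.2 h2⟩, Subtype.ext h1⟩

universe u v
variable {K : Type u} [Field K] {M : Type v} [AddCommGroup M] [Module K M]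
variable {ρ : Representation K A8 M}

/-- **fixed vectors of `A₆`** -/
theorem six [FiniteDimensional K M] [CharP K 5] (h : Pt ρ 56 32 24 20 20)
    (h4 : ∀ a : A8, (a : Perm (Fin 8)).cycleType = {4, 2} → nn ρ [a] = 16)
    (B : M →ₗ[K] M →ₗ[K] K) (hB : ∀ v, (∀ w, B v w = 0) → v = 0) (hinv : ∀ g v w, B (ρ g v) (ρ g w) = B v w) :
    ∃ v : M, v ≠ 0 ∧ ∀ g : A8, (g : Perm (Fin 8)) 6 = 6 → (g : Perm (Fin 8)) 7 = 7 → ρ g v = v := by
  obtain ⟨x, y, hgen, hx, hy, hxy⟩ := gen6c
  have h1 := Cfsg.Agent.H952.F4.Scott.scott_form (MonoidHom.comp ρ io) hgen B hB (fun g v w => hinv (io g) v w)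
  have e1 : ev ((MonoidHom.comp ρ io : Representation K _ M) x) 1 = 32 := by
    have := h.c2 (io x) (by rw [io_ct, hx])
    rwa [nn_one] at this
  have e2 : ev ((MonoidHom.comp ρ io : Representation K _ M) y) 1 = 16 := by
    have := h4 (io y) (by rw [io_ct, hy])
    rwa [nn_one] at this
  have e3 : 56 ≤ 5 * ev ((MonoidHom.comp ρ io : Representation K _ M) (x * y)) 1 := by
    have : Fact (Nat.Prime 5) := ⟨by norm_num⟩
    rw [← h.dim]
    apply Cfsg.Agent.R2.T1.Five.ev_ge
    rw [← map_pow]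
    have h5 : (x * y) ^ 5 = 1 := by
      have h6 := pow_orderOf_eq_one (x * y)
      have h7 : orderOf (x * y) = 5 := by
        rw [← Subgroup.orderOf_coe, ← Perm.lcm_cycleType, hxy]
        rfl
      rwa [h7] at h6
    rw [h5, map_one]
  rw [h.dim, e1, e2] at h1
  have h2 : Representation.invariants (MonoidHom.comp ρ io) ≠ ⊥ := by
    intro h3
    rw [h3, finrank_bot] at h1
    omega
  obtain ⟨v, hv, hv0⟩ := Submodule.exists_mem_ne_zero_of_ne_bot h2
  refine ⟨v, hv0, fun g g6 g7 => ?_⟩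
  obtain ⟨k, rfl⟩ := io_surj g6 g7
  exact (Representation.mem_invariants _ _).1 hv k

end Cfsg.Agent.R2.PX.A
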