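import Cfsg.Agent.R2.T1.Inf.PatF

/-!
# Pattern X of S5771, Part A: the dimensions of the fixed spaces (helper7)

`PatX F ψ` : the dimensions of the fixed spaces of the elements of `A₈` of the types `2², 2⁴, 3, 3², 42` on the
56-dimensional module and of the types `2², 2⁴, 3, 3²` on the adjoint module.
-/

set_option autoImplicit false

namespace Cfsg.Agent.R2.PX.A

open Cfsg Cfsg.Lie Module
open Cfsg.Agent.R2.T1
open Cfsg.Agent.H952.F4 (ev es)

universe u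

/-- the pattern `X` -/
structure PatX (F : Type u) [Field F] (ψ : ↥(alternatingGroup (Fin 8)) →* Gh F) : Prop where
  v2 : ∀ a : ↥(alternatingGroup (Fin 8)), (a : Equiv.Perm (Fin 8)).cycleType = {2, 2} → ev (V F (ψ a)) 1 = 32
  v24 : ∀ a : ↥(alternatingGroup (Fin 8)), (a : Equiv.Perm (Fin 8)).cycleType = {2, 2, 2, 2} → ev (V F (ψ a)) 1 = 24
  v3 : ∀ a : ↥(alternatingGroup (Fin 8)), (a : Equiv.Perm (Fin 8)).cycleType = {3} → ev (V F (ψ a)) 1 = 20
  v33 : ∀ a : ↥(alternatingGroup (Fin 8)), (a : Equiv.Perm (Fin 8)).cycleType = {3, 3} → ev (V F (ψ a)) 1 = 20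
  v42 : ∀ a : ↥(alternatingGroup (Fin 8)), (a : Equiv.Perm (Fin 8)).cycleType = {4, 2} → ev (V F (ψ a)) 1 = 16
  l2 : ∀ a : ↥(alternatingGroup (Fin 8)), (a : Equiv.Perm (Fin 8)).cycleType = {2, 2} → ev (L F (ψ a)) 1 = 69
  l24 : ∀ a : ↥(alternatingGroup (Fin 8)), (a : Equiv.Perm (Fin 8)).cycleType = {2, 2, 2, 2} → ev (L F (ψ a)) 1 = 69
  l3 : ∀ a : ↥(alternatingGroup (Fin 8)), (a : Equiv.Perm (Fin 8)).cycleType = {3} → ev (L F (ψ a)) 1 = 43
  l33 : ∀ a : ↥(alternatingGroup (Fin 8)), (a : Equiv.Perm (Fin 8)).cycleType = {3, 3} → ev (L F (ψ a)) 1 = 43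

end Cfsg.Agent.R2.PX.A
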