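import Cfsg.Agent.R2.PX.A.El2

/-!
# Pattern X of S5771, Part A: fixed vectors of `A₇` from fixed vectors of `A₆` (helper7)

* `trL` : 6-transitivity of `A₈`; `family1`, `family2`;
* `row` : if `A₆` has a non-zero fixed vector then `A₇` has a non-zero fixed vector.
-/

set_option autoImplicit false
set_option maxRecDepth 100000

namespace Cfsg.Agent.R2.PX.A

open Equiv Module

/-- transitivity on tuples -/
theorem trL {l l' : List (Fin 8)} (h : l.Nodup) (h' : l'.Nodup) (hlen : l.length = l'.length) (h6 : l.length ≤ 6) :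
    ∃ g : A8, l.map (g : Perm (Fin 8)) = l' := by
  have h1 : MulAction.IsMultiplyPretransitive A8 (Fin 8) (Nat.card (Fin 8) - 2) :=
    alternatingGroup.isMultiplyPretransitive (Fin 8)
  have h2 : MulAction.IsMultiplyPretransitive A8 (Fin 8) l.length :=
    MulAction.isMultiplyPretransitive_of_le (n := Nat.card (Fin 8) - 2) (by simpa using h6) (by simp)
  obtain ⟨g, hg⟩ := h2.exists_smul_eq (⟨l.get, List.nodup_iff_injective_get.1 h⟩ : Fin l.length ↪ Fin 8)
    ⟨fun i => l'.get (i.cast hlen), fun i j hij => by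
      have := List.nodup_iff_injective_get.1 h' hij
      simpa using this⟩
  refine ⟨g, ?_⟩
  refine List.ext_get (by rw [List.length_map, hlen]) fun n h3 h4 => ?_
  have h5 := DFunLike.congr_fun hg ⟨n, by rwa [List.length_map] at h3⟩
  simp only [List.get_eq_getElem, List.getElem_map]
  exact h5

universe u v
variable {K : Type u} [Field K] {M : Type v} [AddCommGroup M] [Module K M]
variable {ρ : Representation K A8 M}

theorem ρ_mul (a b : A8) (v : M) : ρ a (ρ b v) = ρ (a * b) v := by rw [map_mul]; rfl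

theorem coe_mul (a b : A8) (i : Fin 8) : ((a * b : A8) : Perm (Fin 8)) i = (a : Perm (Fin 8)) ((b : Perm (Fin 8)) i) := rfl

theorem inv_apply {a : A8} {i j : Fin 8} (h : (a : Perm (Fin 8)) i = j) : ((a⁻¹ : A8) : Perm (Fin 8)) j = i := by
  rw [← h]
  exact Equiv.symm_apply_apply _ _

/-- the translates of a vector fixed by the stabilizer of 7 -/
theorem family1 {y : M} (hy : ∀ g : A8, (g : Perm (Fin 8)) 7 = 7 → ρ g y = y) :
    ∃ w : Fin 8 → M, w 7 = y ∧ ∀ (g : A8) (i : Fin 8), ρ g (w i) = w ((g : Perm (Fin 8)) i) := by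
  have h1 : ∀ i : Fin 8, ∃ g : A8, (g : Perm (Fin 8)) 7 = i := fun i => by
    obtain ⟨g, hg⟩ := trL (l := [7]) (l' := [i]) (by simp) (by simp) rfl (by simp)
    exact ⟨g, by simpa using hg⟩
  choose γ hγ using h1
  have h2 : ∀ g g' : A8, (g : Perm (Fin 8)) 7 = (g' : Perm (Fin 8)) 7 → ρ g y = ρ g' y := by
    intro g g' h
    have h3 := hy (g'⁻¹ * g) (by rw [coe_mul, h]; exact inv_apply rfl)
    calc ρ g y = ρ (g' * (g'⁻¹ * g)) y := by congr 2; group
      _ = ρ g' (ρ (g'⁻¹ * g) y) := (ρ_mul _ _ _).symm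
      _ = ρ g' y := by rw [h3]
  refine ⟨fun i => ρ (γ i) y, ?_, fun g i => ?_⟩
  · exact hy _ (hγ 7)
  · show ρ g (ρ (γ i) y) = ρ (γ _) y
    rw [ρ_mul]
    apply h2
    rw [coe_mul, hγ, hγ]

/-- the translates of a vector fixed by the stabilizer of 6 and 7 -/
theorem family2 {v : M} (hv : ∀ g : A8, (g : Perm (Fin 8)) 6 = 6 → (g : Perm (Fin 8)) 7 = 7 → ρ g v = v) :
    ∃ w : Fin 8 → Fin 8 → M, w 6 7 = v ∧ (∀ i, w i i = 0) ∧
      ∀ (g : A8) (i j : Fin 8), ρ g (w i j) = w ((g : Perm (Fin 8)) i) ((g : Perm (Fin 8)) j) := by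
  have h1 : ∀ i j : Fin 8, ∃ g : A8, i ≠ j → (g : Perm (Fin 8)) 6 = i ∧ (g : Perm (Fin 8)) 7 = j := fun i j => by
    by_cases hij : i = j
    · exact ⟨1, fun h => absurd hij h⟩
    · obtain ⟨g, hg⟩ := trL (l := [6, 7]) (l' := [i, j]) (by simp) (by simp [hij]) rfl (by simp)
      simp only [List.map_cons, List.map_nil, List.cons.injEq, and_true] at hg
      exact ⟨g, fun _ => hg⟩
  choose γ hγ using h1
  have h2 : ∀ g g' : A8, (g : Perm (Fin 8)) 6 = (g' : Perm (Fin 8)) 6 → (g : Perm (Fin 8)) 7 = (g' : Perm (Fin 8)) 7 →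
      ρ g v = ρ g' v := by
    intro g g' h h'
    have h3 := hv (g'⁻¹ * g) (by rw [coe_mul, h]; exact inv_apply rfl) (by rw [coe_mul, h']; exact inv_apply rfl)
    calc ρ g v = ρ (g' * (g'⁻¹ * g)) v := by congr 2; group
      _ = ρ g' (ρ (g'⁻¹ * g) v) := (ρ_mul _ _ _).symm
      _ = ρ g' v := by rw [h3]
  refine ⟨fun i j => if i = j then 0 else ρ (γ i j) v, ?_, fun i => if_pos rfl, fun g i j => ?_⟩
  · show (if (6 : Fin 8) = 7 then (0 : M) else ρ (γ 6 7) v) = v
    have h67 : (6 : Fin 8) ≠ 7 := by decide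
    rw [if_neg h67]
    exact hv _ (hγ 6 7 h67).1 (hγ 6 7 h67).2
  · show ρ g (if i = j then (0 : M) else ρ (γ i j) v) = if _ = _ then (0 : M) else _
    by_cases hij : i = j
    · rw [if_pos hij, if_pos (by rw [hij]), map_zero]
    · have hij' : (g : Perm (Fin 8)) i ≠ (g : Perm (Fin 8)) j := fun h => hij ((g : Perm (Fin 8)).injective h)
      rw [if_neg hij, if_neg hij', ρ_mul]
      apply h2
      · rw [coe_mul, (hγ i j hij).1, (hγ _ _ hij').1]
      · rw [coe_mul, (hγ i j hij).2, (hγ _ _ hij').2]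

theorem sum8 (f : Fin 8 → M) : ∑ i, f i = f 0 + f 1 + f 2 + f 3 + f 4 + f 5 + f 6 + f 7 := Fin.sum_univ_eight f

/-- **the row sums** -/
theorem row [FiniteDimensional K M] (h2 : (2 : K) ≠ 0) (h3 : (3 : K) ≠ 0) (h7 : (7 : K) ≠ 0) (h : Pt ρ 56 32 24 20 20)
    {v : M} (hv : ∀ g : A8, (g : Perm (Fin 8)) 6 = 6 → (g : Perm (Fin 8)) 7 = 7 → ρ g v = v) (hne : v ≠ 0) :
    ∃ y : M, y ≠ 0 ∧ ∀ g : A8, (g : Perm (Fin 8)) 7 = 7 → ρ g y = y := by
  by_contra hcon
  push Not at hcon
  have hno : ∀ y : M, (∀ g : A8, (g : Perm (Fin 8)) 7 = 7 → ρ g y = y) → y = 0 := by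
    intro y hy
    by_contra hy0
    obtain ⟨g, hg, hg'⟩ := hcon y hy0
    exact hg' (hy g hg)
  obtain ⟨w, hw, hwi, hρ⟩ := family2 hv
  have h6 : (6 : K) ≠ 0 := by
    have : (6 : K) = 2 * 3 := by norm_num
    rw [this]; exact mul_ne_zero h2 h3
  have h8 : (8 : K) ≠ 0 := by
    have : (8 : K) = 2 * 2 * 2 := by norm_num
    rw [this]; exact mul_ne_zero (mul_ne_zero h2 h2) h2
  -- row sums and column sums
  have hsum : ∀ f : Fin 8 → M, (∀ (g : A8) (i : Fin 8), ρ g (f i) = f ((g : Perm (Fin 8)) i)) → ∀ i, f i = 0 := by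
    intro f hf i
    have h1 : f 7 = 0 := hno _ fun g hg => by rw [hf, hg]
    obtain ⟨g, hg⟩ := trL (l := [7]) (l' := [i]) (by simp) (by simp) rfl (by simp)
    have hg' : (g : Perm (Fin 8)) 7 = i := by simpa using hg
    rw [← hg', ← hf, h1, map_zero]
  have hrow : ∀ i, ∑ j, w i j = 0 := hsum _ fun g i => by
    rw [map_sum]
    simp only [hρ]
    exact Equiv.sum_comp (g : Perm (Fin 8)) fun j => w ((g : Perm (Fin 8)) i) j
  have hcol : ∀ j, ∑ i, w i j = 0 := hsum _ fun g i => by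
    rw [map_sum]
    simp only [hρ]
    exact Equiv.sum_comp (g : Perm (Fin 8)) fun j => w j ((g : Perm (Fin 8)) i)
  -- the symmetric part
  set p : Fin 8 → Fin 8 → M := fun i j => w i j + w j i with hp
  have psym : ∀ i j, p i j = p j i := fun i j => add_comm _ _
  have pii : ∀ i, p i i = 0 := fun i => by show w i i + w i i = 0; rw [hwi, add_zero]
  have pρ : ∀ (g : A8) i j, ρ g (p i j) = p ((g : Perm (Fin 8)) i) ((g : Perm (Fin 8)) j) := fun g i j => by
    show ρ g (w i j + w j i) = _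
    rw [map_add, hρ, hρ]
  have psum : ∀ i, ∑ j, p i j = 0 := fun i => by
    show ∑ j, (w i j + w j i) = 0
    rw [Finset.sum_add_distrib, hrow, hcol, add_zero]
  have x0 : p 0 1 + p 2 3 + p 4 5 + p 6 7 = 0 := by
    apply dimE h2 h
    · simp only [map_add, pρ]
      rw [show (e1 : Perm (Fin 8)) 0 = 1 by decide, show (e1 : Perm (Fin 8)) 1 = 0 by decide,
        show (e1 : Perm (Fin 8)) 2 = 3 by decide, show (e1 : Perm (Fin 8)) 3 = 2 by decide,
        show (e1 : Perm (Fin 8)) 4 = 5 by decide, show (e1 : Perm (Fin 8)) 5 = 4 by decide,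
        show (e1 : Perm (Fin 8)) 6 = 7 by decide, show (e1 : Perm (Fin 8)) 7 = 6 by decide,
        psym 1 0, psym 3 2, psym 5 4, psym 7 6]
    · simp only [map_add, pρ]
      rw [show (e2 : Perm (Fin 8)) 0 = 2 by decide, show (e2 : Perm (Fin 8)) 1 = 3 by decide,
        show (e2 : Perm (Fin 8)) 2 = 0 by decide, show (e2 : Perm (Fin 8)) 3 = 1 by decide,
        show (e2 : Perm (Fin 8)) 4 = 6 by decide, show (e2 : Perm (Fin 8)) 5 = 7 by decide,
        show (e2 : Perm (Fin 8)) 6 = 4 by decide, show (e2 : Perm (Fin 8)) 7 = 5 by decide]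
      abel
    · simp only [map_add, pρ]
      rw [show (c1 : Perm (Fin 8)) 0 = 4 by decide, show (c1 : Perm (Fin 8)) 1 = 5 by decide,
        show (c1 : Perm (Fin 8)) 2 = 6 by decide, show (c1 : Perm (Fin 8)) 3 = 7 by decide,
        show (c1 : Perm (Fin 8)) 4 = 0 by decide, show (c1 : Perm (Fin 8)) 5 = 1 by decide,
        show (c1 : Perm (Fin 8)) 6 = 2 by decide, show (c1 : Perm (Fin 8)) 7 = 3 by decide]
      abel
  set q1 : A8 := ⟨swap 1 2 * swap 4 5, by rw [Equiv.Perm.mem_alternatingGroup]; decide +kernel⟩ with hq1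
  have x1 : p 0 1 + p 2 3 = p 0 2 + p 1 3 := by
    have h1 := congrArg (ρ q1) x0
    simp only [map_add, pρ, map_zero] at h1
    rw [show (q1 : Perm (Fin 8)) 0 = 0 by decide, show (q1 : Perm (Fin 8)) 1 = 2 by decide,
        show (q1 : Perm (Fin 8)) 2 = 1 by decide, show (q1 : Perm (Fin 8)) 3 = 3 by decide,
        show (q1 : Perm (Fin 8)) 4 = 5 by decide, show (q1 : Perm (Fin 8)) 5 = 4 by decide,
        show (q1 : Perm (Fin 8)) 6 = 6 by decide, show (q1 : Perm (Fin 8)) 7 = 7 by decide, psym 5 4] at h1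
    linear_combination (norm := module) x0 - h1
  have x2 : ∀ l : Fin 8, ([0, 1, 2, l] : List (Fin 8)).Nodup → p 0 1 + p 2 l = p 0 2 + p 1 l := by
    intro l hl
    obtain ⟨g, hg⟩ := trL (l := [0, 1, 2, 3]) (l' := [0, 1, 2, l]) (by decide) hl rfl (by simp)
    simp only [List.map_cons, List.map_nil, List.cons.injEq, and_true] at hg
    obtain ⟨g0, g1, g2, g3⟩ := hg
    have h1 := congrArg (ρ g) x1
    simp only [map_add, pρ, g0, g1, g2, g3] at h1
    exact h1
  have x3 : p 0 1 = p 0 2 := by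
    have k3 := x2 3 (by decide)
    have k4 := x2 4 (by decide)
    have k5 := x2 5 (by decide)
    have k6 := x2 6 (by decide)
    have k7 := x2 7 (by decide)
    have r1 := psum 1
    have r2 := psum 2
    rw [sum8, pii, psym 1 0] at r1
    rw [sum8, pii, psym 2 0, psym 2 1] at r2
    have k8 : (6 : K) • p 0 1 = (6 : K) • p 0 2 := by
      linear_combination (norm := module) k3 + k4 + k5 + k6 + k7 + r1 - r2
    exact smul_right_injective M h6 k8
  have x4 : ∀ i j k : Fin 8, ([i, j, k] : List (Fin 8)).Nodup → p i j = p i k := by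
    intro i j k hl
    obtain ⟨g, hg⟩ := trL (l := [0, 1, 2]) (l' := [i, j, k]) (by decide) hl rfl (by simp)
    simp only [List.map_cons, List.map_nil, List.cons.injEq, and_true] at hg
    obtain ⟨g0, g1, g2⟩ := hg
    have h1 := congrArg (ρ g) x3
    simp only [pρ, g0, g1, g2] at h1
    exact h1
  have x5 : p 0 1 = 0 := by
    have r0 := psum 0
    rw [sum8, pii, x4 0 2 1 (by decide), x4 0 3 1 (by decide), x4 0 4 1 (by decide), x4 0 5 1 (by decide),
      x4 0 6 1 (by decide), x4 0 7 1 (by decide)] at r0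
    have k8 : (7 : K) • p 0 1 = (7 : K) • (0 : M) := by
      linear_combination (norm := module) r0
    exact smul_right_injective M h7 k8
  -- the antisymmetric part
  set m : Fin 8 → Fin 8 → M := fun i j => w i j - w j i with hm
  have msym : ∀ i j, m i j = - m j i := fun i j => (neg_sub _ _).symm
  have mii : ∀ i, m i i = 0 := fun i => sub_self _
  have mρ : ∀ (g : A8) i j, ρ g (m i j) = m ((g : Perm (Fin 8)) i) ((g : Perm (Fin 8)) j) := fun g i j => by
    show ρ g (w i j - w j i) = _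
    rw [map_sub, hρ, hρ]
  have msum : ∀ i, ∑ j, m i j = 0 := fun i => by
    show ∑ j, (w i j - w j i) = 0
    rw [Finset.sum_sub_distrib, hrow, hcol, sub_zero]
  have y0 : m 0 1 + m 1 2 + m 2 0 = 0 := by
    have h1 : ρ t2 (m 0 1 + m 1 2 + m 2 0) = m 0 1 + m 1 2 + m 2 0 := by
      apply dimP h2 h3 h
      · simp only [map_add, mρ]
        rw [show (p1 : Perm (Fin 8)) 0 = 1 by decide, show (p1 : Perm (Fin 8)) 1 = 2 by decide,
          show (p1 : Perm (Fin 8)) 2 = 0 by decide]
        abel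
      · simp only [map_add, mρ]
        rw [show (p2 : Perm (Fin 8)) 0 = 0 by decide, show (p2 : Perm (Fin 8)) 1 = 1 by decide,
          show (p2 : Perm (Fin 8)) 2 = 2 by decide]
    simp only [map_add, mρ] at h1
    rw [show (t2 : Perm (Fin 8)) 0 = 1 by decide, show (t2 : Perm (Fin 8)) 1 = 0 by decide,
          show (t2 : Perm (Fin 8)) 2 = 2 by decide, msym 1 0, msym 0 2, msym 2 1] at h1
    refine eq_zero_of_two h2 ?_
    linear_combination (norm := module) -h1
  have y1 : ∀ k : Fin 8, ([0, 1, k] : List (Fin 8)).Nodup → m 0 1 + m 1 k + m k 0 = 0 := by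
    intro k hl
    obtain ⟨g, hg⟩ := trL (l := [0, 1, 2]) (l' := [0, 1, k]) (by decide) hl rfl (by simp)
    simp only [List.map_cons, List.map_nil, List.cons.injEq, and_true] at hg
    obtain ⟨g0, g1, g2⟩ := hg
    have h1 := congrArg (ρ g) y0
    simp only [map_add, mρ, g0, g1, g2, map_zero] at h1
    exact h1
  have y2 : m 0 1 = 0 := by
    have k2 := y1 2 (by decide)
    have k3 := y1 3 (by decide)
    have k4 := y1 4 (by decide)
    have k5 := y1 5 (by decide)
    have k6 := y1 6 (by decide)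
    have k7 := y1 7 (by decide)
    have r0 := msum 0
    have r1 := msum 1
    rw [sum8, mii, msym 0 2, msym 0 3, msym 0 4, msym 0 5, msym 0 6, msym 0 7] at r0
    rw [sum8, mii, msym 1 0] at r1
    have k8 : (8 : K) • m 0 1 = (8 : K) • (0 : M) := by
      linear_combination (norm := module) k2 + k3 + k4 + k5 + k6 + k7 + r0 - r1
    exact smul_right_injective M h8 k8
  -- conclusion
  apply hne
  have h9 : w 0 1 = 0 := by
    refine eq_zero_of_two h2 ?_
    have e1 : w 0 1 + w 1 0 = 0 := x5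
    have e2 : w 0 1 - w 1 0 = 0 := y2
    linear_combination (norm := module) e1 + e2
  obtain ⟨g, hg⟩ := trL (l := [0, 1]) (l' := [6, 7]) (by decide) (by decide) rfl (by simp)
  simp only [List.map_cons, List.map_nil, List.cons.injEq, and_true] at hg
  have h10 := hρ g 0 1
  rw [hg.1, hg.2, h9, map_zero, hw] at h10
  exact h10.symm

end Cfsg.Agent.R2.PX.A
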