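import Cfsg.Agent.R2.PX.A.One
import Cfsg.Agent.R2.PX.A.Ani

/-!
# Pattern X of S5771, Part A: fixed vectors of `A₇` (helper7)
-/

set_option autoImplicit false

namespace Cfsg.Agent.R2.PX.A

open Cfsg Cfsg.Lie Module
open Cfsg.Agent.R2.T1
open Cfsg.Agent.H952.F4 (ev es)
open Cfsg.Agent.H943.E7V.Block (D1 rho)

universe u
variable {F : Type u} [Field F] {ψ : A8 →* Gh F}

/-- **`A₇` has a non-zero fixed vector** -/
theorem PatX.seven [CharP F 5] (hP : PatX F ψ) :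
    ∃ y : D1 → F, y ≠ 0 ∧ ∀ g : A8, (g : Equiv.Perm (Fin 8)) 7 = 7 → V F (ψ g) y = y := by
  obtain ⟨v, hv, hv'⟩ := six (ρ := MonoidHom.comp (V F) ψ) hP.ptV
    (fun a ha => by rw [nn_one]; exact hP.v42 a ha) (sf F) (fun v h => sf_nondeg' h)
    (fun g v w => sf_V (ψ g) v w)
  exact row (ρ := MonoidHom.comp (V F) ψ) two_ne three_ne seven_ne hP.ptV hv' hv

end Cfsg.Agent.R2.PX.A
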